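import Cfsg.Agent.Lib.UnitTensor.Form
import Cfsg.Agent.Lib.ExtFieldMax.TensorCore

/-!
A hermitian space written as the tensor product of two hermitian spaces.
-/

set_option autoImplicit false

namespace Cfsg.Agent.UnitTensor

open scoped Matrix MatrixGroups
open Module Submodule
open Cfsg.Agent Cfsg.Agent.TransvMax Cfsg.Agent.ExtFieldMax

variable {F : Type*} [Field F] {ι : Type} [Fintype ι] [DecidableEq ι] {a b : ℕ}

/-- A tensor decomposition of a hermitian space. -/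
structure TU (σ : F ≃+* F) (f : (ι → F) → (ι → F) → F) (a b : ℕ) where
  uf : Cfsg.Geo.IsUnitaryForm σ f
  T : (Fin a → F) →ₗ[F] (Fin b → F) →ₗ[F] (ι → F)
  L : TensorMax.Tn F a b ≃ₗ[F] (ι → F)
  hL : ∀ c y, L (Matrix.vecMulVec c y) = T c y
  h₁ : (Fin a → F) → (Fin a → F) → F
  h₂ : (Fin b → F) → (Fin b → F) → F
  u₁ : Cfsg.Geo.IsUnitaryForm σ h₁
  u₂ : Cfsg.Geo.IsUnitaryForm σ h₂
  form : ∀ c y d z, f (T c y) (T d z) = h₁ c d * h₂ y z

variable {σ : F ≃+* F} {f : (ι → F) → (ι → F) → F} (S : TU σ f a b)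

namespace TU

/-- `X ↦ (1 ⊗ h₂(·, w)) X` -/
noncomputable def ctr (w : Fin b → F) : (ι → F) →ₗ[F] (Fin a → F) :=
  TensorMax.ctr (hermRow S.u₂ w) ∘ₗ S.L.symm.toLinearMap

theorem ctr_T (w : Fin b → F) (c : Fin a → F) (y : Fin b → F) : S.ctr w (S.T c y) = S.h₂ y w • c := by
  rw [ctr, LinearMap.comp_apply, LinearEquiv.coe_coe, ← S.hL, S.L.symm_apply_apply, TensorMax.ctr_apply,
    TensorMax.pure_ctr, dotProduct_comm, hermRow_dot]

theorem ext_T {W : Type*} [AddCommGroup W] [Module F W] {g g' : (ι → F) →ₗ[F] W}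
    (h : ∀ c y, g (S.T c y) = g' (S.T c y)) : g = g' := by
  refine LinearMap.ext fun X => ?_
  obtain ⟨M, rfl⟩ := S.L.surjective X
  rw [TensorMax.rows_sum M, map_sum, map_sum, map_sum]
  exact Finset.sum_congr rfl fun i _ => by rw [S.hL, h]

theorem f_T (X : ι → F) (d : Fin a → F) (w : Fin b → F) : f X (S.T d w) = S.h₁ (S.ctr w X) d := by
  have := S.ext_T (g := hermFun S.uf (S.T d w)) (g' := hermFun S.u₁ d ∘ₗ S.ctr w) fun c y => by
    rw [hermFun_apply, S.form, LinearMap.comp_apply, S.ctr_T, hermFun_apply, S.u₁.smul_left, mul_comm]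
  exact LinearMap.congr_fun this X

theorem ctr_add (w w' : Fin b → F) (X : ι → F) : S.ctr (w + w') X = S.ctr w X + S.ctr w' X :=
  herm_eq_of_forall S.u₁ fun d => by
    rw [S.u₁.herm, ← S.f_T, map_add, herm_add_right S.uf, S.f_T, S.f_T, map_add, herm_add_right S.u₁,
      ← S.u₁.herm, ← S.u₁.herm]

theorem ctr_smul (s : F) (w : Fin b → F) (X : ι → F) : S.ctr (s • w) X = σ s • S.ctr w X :=
  herm_eq_of_forall S.u₁ fun d => by
    rw [S.u₁.herm, ← S.f_T, map_smul, herm_smul_right S.uf, S.f_T, map_mul, S.u₁.involutive,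
      herm_smul_right S.u₁, S.u₁.involutive, ← S.u₁.herm]

theorem T_eq_zero {c : Fin a → F} {y : Fin b → F} (hy : y ≠ 0) (h : S.T c y = 0) : c = 0 := by
  obtain ⟨v, hv⟩ := (S.u₂.nondegenerate y hy).2
  have := congrArg (S.ctr v) h
  rw [S.ctr_T, map_zero, smul_eq_zero] at this
  exact this.resolve_left hv

theorem eq_zero_of_ctr {X : ι → F} (h : ∀ x, S.ctr x X = 0) : X = 0 := by
  by_contra hX
  obtain ⟨Y, hY⟩ := (S.uf.nondegenerate X hX).2
  have := S.ext_T (g := hermFun S.uf X) (g' := 0) fun d x => by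
    rw [hermFun_apply, LinearMap.zero_apply, S.uf.herm, S.f_T, h, herm_zero_left S.u₁, map_zero]
  exact hY (by rw [S.uf.herm, ← hermFun_apply S.uf, this, LinearMap.zero_apply, map_zero])

theorem mem_line {X : ι → F} {w z : Fin b → F} (hz : S.h₂ w z = 1)
    (h : ∀ x, S.h₂ w x = 0 → S.ctr x X = 0) : X = S.T (S.ctr z X) w := by
  refine sub_eq_zero.1 (S.eq_zero_of_ctr fun x => ?_)
  have h1 := h (x - σ (S.h₂ w x) • z) (by
    rw [herm_sub_right S.u₂, herm_smul_right S.u₂, hz, S.u₂.involutive, mul_one, sub_self])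
  rw [sub_eq_add_neg x, ← neg_smul, S.ctr_add, S.ctr_smul, map_neg, S.u₂.involutive, neg_smul,
    ← sub_eq_add_neg, sub_eq_zero] at h1
  rw [map_sub, S.ctr_T, h1, sub_self]

/-- `X ↦ N (ctr q X) ⊗ p` -/
noncomputable def el (p q : Fin b → F) (N : Module.End F (Fin a → F)) : Module.End F (ι → F) :=
  S.T.flip p ∘ₗ N ∘ₗ S.ctr q

theorem el_apply (p q : Fin b → F) (N : Module.End F (Fin a → F)) (X : ι → F) :
    S.el p q N X = S.T (N (S.ctr q X)) p := rfl

theorem el_el (p q r s : Fin b → F) (N N' : Module.End F (Fin a → F)) (X : ι → F) :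
    S.el p q N (S.el r s N' X) = S.h₂ r q • S.el p s (N * N') X := by
  simp [el_apply, S.ctr_T]

/-- The adjoint relation. -/
def Adj (N N' : Module.End F (Fin a → F)) : Prop := ∀ x d, S.h₁ (N x) d = S.h₁ x (N' d)

theorem Adj.symm {N N' : Module.End F (Fin a → F)} (h : S.Adj N N') : S.Adj N' N := fun x d => by
  rw [S.u₁.herm, ← h, ← S.u₁.herm]

theorem exists_adj [Finite F] (N : Module.End F (Fin a → F)) : ∃ N', S.Adj N N' := by
  have h : ∀ d, ∃ p, ∀ x, S.h₁ (N x) d = S.h₁ x p := fun d =>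
    exists_hermFun S.u₁ (hermFun S.u₁ d ∘ₗ N)
  choose p hp using h
  exact ⟨{ toFun := p
           map_add' := fun x y => herm_eq_of_forall S.u₁ fun d => by
             rw [← hp, herm_add_right S.u₁, herm_add_right S.u₁, hp, hp]
           map_smul' := fun t x => herm_eq_of_forall S.u₁ fun d => by
             rw [← hp, RingHom.id_apply, herm_smul_right S.u₁, herm_smul_right S.u₁, hp] },
    fun x d => hp d x⟩

theorem Adj.unique {N N' N'' : Module.End F (Fin a → F)} (h : S.Adj N N') (h' : S.Adj N N'') : N' = N'' :=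
  LinearMap.ext fun d => herm_eq_of_forall S.u₁ fun x => by rw [← h, h']

/-- The product maps. -/
def IsT (g : (ι → F) ≃ₗ[F] (ι → F)) : Prop :=
  ∃ (g₁ : (Fin a → F) →ₗ[F] (Fin a → F)) (g₂ : (Fin b → F) →ₗ[F] (Fin b → F)),
    ∀ c y, g (S.T c y) = S.T (g₁ c) (g₂ y)

/-- Lines go to lines. -/
def Line (g : (ι → F) ≃ₗ[F] (ι → F)) (w : Fin b → F) : Prop := ∃ w', ∀ c, ∃ d, g (S.T c w) = S.T d w'

/-- The isometry groups containing the special unitary groups of both factors. -/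
structure Over (H : Subgroup ((ι → F) ≃ₗ[F] (ι → F))) : Prop where
  iso : ∀ g ∈ H, ∀ x y, f (g x) (g y) = f x y
  left : ∀ A : GL (Fin a) F, IsSU S.h₁ A →
    ∃ g ∈ H, ∀ c y, g (S.T c y) = S.T ((A : Matrix (Fin a) (Fin a) F) *ᵥ c) y
  right : ∀ B : GL (Fin b) F, IsSU S.h₂ B →
    ∃ g ∈ H, ∀ c y, g (S.T c y) = S.T c ((B : Matrix (Fin b) (Fin b) F) *ᵥ y)

variable {S}
variable {H : Subgroup ((ι → F) ≃ₗ[F] (ι → F))}

theorem Over.symm_eq (O : S.Over H) {g : (ι → F) ≃ₗ[F] (ι → F)} (hg : g ∈ H) (x y : ι → F) :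
    f (g.symm x) y = f x (g y) := by
  rw [← O.iso g hg (g.symm x) y, g.apply_symm_apply]

/-- The root element of an isotropic vector of the second factor. -/
theorem Over.root (O : S.Over H) {w : Fin b → F} (hw : S.h₂ w w = 0) {t : F} (ht : t + σ t = 0) :
    InH H (S.el w w (t • 1)) := by
  obtain ⟨g, hg, hgx⟩ := O.right _ (isSU_utrv S.u₂ hw ht)
  refine ⟨g, hg, fun X => ?_⟩
  have := S.ext_T (g := g.toLinearMap) (g' := LinearMap.id + S.el w w (t • 1)) fun c y => by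
    simp [el_apply, S.ctr_T, hgx, utrv_mulVec, smul_smul, mul_comm]
  exact LinearMap.congr_fun this X

/-- The root element of an isotropic vector and a vector orthogonal to it. -/
theorem Over.eichler (O : S.Over H) {w x : Fin b → F} (hw : S.h₂ w w = 0) (hx : S.h₂ x w = 0) {t : F}
    (ht : t + σ t = -S.h₂ x x) :
    InH H (S.el x w 1 + S.el w w (t • 1) - S.el w x 1) := by
  obtain ⟨g, hg, hgx⟩ := O.right _ (isSU_hSiegel S.u₂ hw hx ht)
  refine ⟨g, hg, fun X => ?_⟩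
  have := S.ext_T (g := g.toLinearMap) (g' := LinearMap.id + (S.el x w 1 + S.el w w (t • 1) - S.el w x 1))
    fun c y => by
    simp [el_apply, S.ctr_T, hgx, hSiegel_mulVec]
    module
  exact LinearMap.congr_fun this X

theorem isT_mul {g g' : (ι → F) ≃ₗ[F] (ι → F)} (hg : S.IsT g) (hg' : S.IsT g') : S.IsT (g * g') := by
  obtain ⟨g₁, g₂, hg⟩ := hg
  obtain ⟨k₁, k₂, hk⟩ := hg'
  exact ⟨g₁ ∘ₗ k₁, g₂ ∘ₗ k₂, fun c y => by simp [hg, hk]⟩

theorem not_isT_left {g e : (ι → F) ≃ₗ[F] (ι → F)} {B : GL (Fin b) F}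
    (hgx : ∀ c y, g (S.T c y) = S.T c ((B : Matrix (Fin b) (Fin b) F) *ᵥ y)) (he : ¬ S.IsT e) :
    ¬ S.IsT (g * e) := by
  intro hT
  have hgi : S.IsT g⁻¹ := by
    refine ⟨LinearMap.id, Matrix.mulVecLin ((B⁻¹ : GL (Fin b) F) : Matrix (Fin b) (Fin b) F), fun c y => ?_⟩
    apply g.injective
    show g (g.symm (S.T c y)) = g (S.T c _)
    rw [g.apply_symm_apply, hgx, Matrix.mulVecLin_apply, mulVec_inv_mulVec]
  exact he (by simpa using isT_mul hgi hT)

end TU

end Cfsg.Agent.UnitTensor
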