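import Cfsg.Agent.Lib.UnitTensor.Grow

/-!
An element stabilising a singular line gives a non-scalar element along that line.
-/

set_option autoImplicit false

namespace Cfsg.Agent.UnitTensor

open scoped Matrix MatrixGroups
open Module Submodule
open Cfsg.Agent Cfsg.Agent.TransvMax Cfsg.Agent.ExtFieldMax

variable {F : Type*} [Field F] [Fintype F] {σ : F ≃+* F}

theorem exists_two_trace_zero {θ : F} (hθ0 : θ ≠ 0) (hθ1 : θ ≠ 1) (hθ : σ θ = θ) {ε : F} (hε0 : ε ≠ 0)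
    (hε : ε + σ ε = 0) : θ * ε ≠ ε ∧ θ * ε ≠ 0 ∧ θ * ε + σ (θ * ε) = 0 :=
  ⟨fun h => hθ1 (mul_right_cancel₀ hε0 (by rw [h, one_mul])), mul_ne_zero hθ0 hε0, by
    rw [map_mul, hθ]; linear_combination θ * hε⟩

/-- A map that is not scalar changes non-trivially under some transvection. -/
theorem exists_transv_nonscalar {n : ℕ} {h : (Fin n → F) → (Fin n → F) → F}
    (hh : Cfsg.Geo.IsUnitaryForm σ h) (hn : 2 ≤ n) (hq : n = 2 → ∃ θ : F, σ θ = θ ∧ θ ≠ 0 ∧ θ ≠ 1)
    {N : Module.End F (Fin n → F)} (hN : ∀ s : F, N ≠ s • 1) :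
    ∃ (u : Fin n → F) (e : F), h u u = 0 ∧ e + σ e = 0 ∧ ∀ t : F, ∃ c,
      (e * h c u) • N u - (e * h (N c) u) • u - (e * e * (h c u * h (N u) u)) • u ≠ t • c := by
  obtain ⟨u, hu, hNu⟩ : ∃ u, h u u = 0 ∧ ∀ s : F, N u ≠ s • u := by
    by_contra hc
    push Not at hc
    obtain ⟨s, hs⟩ := scalar_of_iso_eigen hh hn N hc
    exact hN s hs
  have hu0 : u ≠ 0 := fun e => hNu 0 (by rw [e]; simp)
  obtain ⟨v, huv, hv⟩ := exists_partner hh hu0 hu
  have hvu : h v u = 1 := by rw [hh.herm, huv, map_one]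
  obtain ⟨ε, hε0, hε⟩ := exists_trace_zero hh.ne_refl hh.involutive
  by_cases h3 : n = 2
  · obtain ⟨θ, hθ, hθ0, hθ1⟩ := hq h3
    obtain ⟨hne, hne0, hθε⟩ := exists_two_trace_zero hθ0 hθ1 hθ hε0 hε
    have hli : LinearIndependent F ![u, v] := (LinearIndependent.pair_iff' hu0).2 fun s hs => by
      rw [← hs, herm_smul_right hh, hu, mul_zero] at huv
      exact zero_ne_one huv
    have hη : h (N u) u ≠ 0 := by
      intro h0
      refine hNu (h (N u) v) (sub_eq_zero.1 ?_)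
      have hspan := hli.span_eq_top_of_card_eq_finrank (by simp [h3])
      have hall : ∀ y, h (N u - h (N u) v • u) y = 0 := by
        intro y
        obtain ⟨α, hα⟩ : ∃ α : Fin 2 → F, ∑ i, α i • ![u, v] i = y :=
          (Submodule.mem_span_range_iff_exists_fun F).1 (hspan.ge (Submodule.mem_top (x := y)))
        rw [← hα, Fin.sum_univ_two]
        simp [herm_sub_left hh, hh.smul_left, herm_add_right hh, herm_smul_right hh, h0, hu, huv]
        ring
      by_contra hd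
      obtain ⟨y, hy⟩ := (hh.nondegenerate _ hd).2
      exact hy (hall y)
    by_contra hall
    push Not at hall
    have key : ∀ e : F, e ≠ 0 → e + σ e = 0 → h (N u) v - h (N v) u = e * h (N u) u := by
      intro e he0 he
      obtain ⟨t, ht⟩ := hall u e hu he
      have h1 := congrArg (fun y => h y v) (ht v)
      simp only [herm_sub_left hh, hh.smul_left, huv, hvu, hv, mul_zero, mul_one, one_mul] at h1
      exact mul_left_cancel₀ he0 (by linear_combination h1)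
    refine hne (mul_right_cancel₀ hη ?_)
    rw [← key _ hε0 hε, ← key _ hne0 hθε]
  · refine ⟨u, ε, hu, hε, fun t => ?_⟩
    by_contra hall
    push Not at hall
    obtain ⟨c, hcu, hc⟩ : ∃ c, h c u = 0 ∧ ∀ s : F, c ≠ s • u := by
      by_contra hc
      push Not at hc
      have hle : LinearMap.ker (hermFun hh u) ≤ F ∙ u := fun y hy => by
        obtain ⟨s, hs⟩ := hc y hy
        exact Submodule.mem_span_singleton.2 ⟨s, hs.symm⟩
      have h1 := Submodule.finrank_mono hle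
      rw [finrank_span_singleton hu0] at h1
      have h2 := (hermFun hh u).finrank_range_add_finrank_ker
      have h4 := Submodule.finrank_le (LinearMap.range (hermFun hh u))
      rw [Module.finrank_self] at h4
      rw [Module.finrank_fin_fun] at h2
      omega
    have h1 := hall c
    rw [hcu, mul_zero, zero_smul, zero_mul, mul_zero, zero_smul, zero_sub, sub_zero] at h1
    have ht : t = 0 := by
      by_contra ht
      exact hc (t⁻¹ * -(ε * h (N c) u)) (by
        rw [mul_smul, neg_smul, h1, smul_smul, inv_mul_cancel₀ ht, one_smul])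
    have h2 := hall v
    rw [ht, zero_smul, hvu, mul_one, sub_eq_zero, sub_eq_iff_eq_add] at h2
    refine hNu (ε⁻¹ * (ε * ε * (1 * h (N u) u) + ε * h (N v) u)) ?_
    rw [mul_smul, add_smul, ← h2, smul_smul, inv_mul_cancel₀ hε0, one_smul]

variable {ι : Type} [Fintype ι] [DecidableEq ι] {a b : ℕ}
  {f : (ι → F) → (ι → F) → F} {S : TU σ f a b} {H : Subgroup ((ι → F) ≃ₗ[F] (ι → F))}

namespace TU

/-- A non-scalar element along a singular line. -/
def HasM (S : TU σ f a b) (H : Subgroup ((ι → F) ≃ₗ[F] (ι → F))) : Prop :=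
  ∃ w, w ≠ 0 ∧ S.h₂ w w = 0 ∧ ∃ M : Module.End F (Fin a → F), (∀ s : F, M ≠ s • 1) ∧ InH H (S.el w w M)

/-- The group commutator of two members. -/
theorem inH_comm {V : Type*} [AddCommGroup V] [Module F V] {H : Subgroup (V ≃ₗ[F] V)} {A B : Module.End F V}
    (hA : InH H A) (hB : InH H B) (h₁ : ∀ x, A (A (B x) - B (A x)) = 0) (h₂ : ∀ x, B (A (B x) - B (A x)) = 0) :
    InH H (A * B - B * A) := by
  obtain ⟨g, hg, hgx⟩ := hA
  obtain ⟨k, hk, hkx⟩ := hB
  refine ⟨(k * g)⁻¹ * (g * k), H.mul_mem (H.inv_mem (H.mul_mem hk hg)) (H.mul_mem hg hk), fun x => ?_⟩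
  apply (k * g).injective
  show (k * g) ((k * g).symm ((g * k) x)) = _
  rw [LinearEquiv.apply_symm_apply]
  simp only [LinearEquiv.mul_apply, hgx, hkx, map_add, LinearMap.sub_apply, Module.End.mul_apply]
  have e1 := h₁ x
  have e2 := h₂ x
  simp only [map_sub] at e1 e2 ⊢
  have e3 : B (A (A (B x))) - B (A (B (A x))) = 0 := by rw [← map_sub, e1, map_zero]
  linear_combination (norm := abel) -e1 - e2 - e3

theorem hasM (ha : 2 ≤ a) (hb : 5 ≤ b) (O : S.Over H) (hq : a = 2 → ∃ θ : F, σ θ = θ ∧ θ ≠ 0 ∧ θ ≠ 1)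
    (hst : S.HasStable H) : S.HasM H := by
  classical
  obtain ⟨h, hh, hhT, w, hw0, hw, A, hAinj, hA⟩ := hst
  by_contra hno
  have hscalar : ∀ M : Module.End F (Fin a → F), InH H (S.el w w M) → ∃ s : F, M = s • 1 := fun M hM => by
    by_contra hM'
    push Not at hM'
    exact hno ⟨w, hw0, hw, M, hM', hM⟩
  let Ae := LinearEquiv.ofInjectiveEndo A hAinj
  have hAe : ∀ c, Ae c = A c := fun c => rfl
  have hAs' : ∀ c, A (Ae.symm c) = c := fun c => Ae.apply_symm_apply c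
  have hA' : ∀ c, h.symm (S.T c w) = S.T (Ae.symm c) w := fun c =>
    h.injective (by rw [h.apply_symm_apply, hA, hAs'])
  obtain ⟨As, hAs⟩ := S.exists_adj A
  have hP1 : ∀ X, S.ctr w (h.symm X) = As (S.ctr w X) := fun X => herm_eq_of_forall S.u₁ fun d => by
    rw [S.u₁.herm, ← S.f_T, O.symm_eq hh, hA, S.f_T, ← Adj.symm S hAs, ← S.u₁.herm]
  obtain ⟨ε, hε0, hε⟩ := exists_trace_zero S.uf.ne_refl S.uf.involutive
  obtain ⟨s, hAAs⟩ : ∃ s : F, A * As = s • 1 := by
    obtain ⟨k, hk, hkx⟩ := O.conj_root hh hw hε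
    obtain ⟨t, ht⟩ := hscalar (ε • (A * As)) ⟨k, hk, fun X => by rw [hkx, hP1, hA]; simp [el_apply]⟩
    exact ⟨ε⁻¹ * t, by rw [mul_smul, ← ht, smul_smul, inv_mul_cancel₀ hε0, one_smul]⟩
  have hAAs' : ∀ c, A (As c) = s • c := fun c => LinearMap.congr_fun hAAs c
  have hAsA : ∀ c, As (A c) = s • c := fun c => hAinj (by rw [hAAs', map_smul])
  obtain ⟨c₀, hc₀⟩ : ∃ c : Fin a → F, c ≠ 0 := ⟨Pi.single ⟨0, by omega⟩ 1, by simp⟩
  have hs0 : s ≠ 0 := by
    intro h0
    obtain ⟨d, hd⟩ := (S.u₁.nondegenerate (A c₀) (fun e => hc₀ (hAinj (e.trans A.map_zero.symm)))).2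
    refine hd ?_
    rw [hAs, show As d = 0 from hAinj (by rw [hAAs', h0, zero_smul, map_zero]), herm_zero_right S.u₁]
  have hsσ : σ s = s := by
    obtain ⟨d, hd⟩ := (S.u₁.nondegenerate c₀ hc₀).2
    have h1 : S.h₁ (A (As c₀)) d = S.h₁ c₀ (A (As d)) := by rw [hAs, Adj.symm S hAs]
    rw [hAAs', hAAs', S.u₁.smul_left, herm_smul_right S.u₁] at h1
    exact (mul_right_cancel₀ hd h1).symm
  have hsim : ∀ c d, S.h₁ (A c) (A d) = s * S.h₁ c d := fun c d => by
    rw [hAs, hAsA, herm_smul_right S.u₁, hsσ]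
  have hperp : ∀ c y, S.h₂ y w = 0 → S.ctr w (h (S.T c y)) = 0 := fun c y hy =>
    herm_eq_of_forall S.u₁ fun d => by
      rw [S.u₁.herm, ← S.f_T, ← h.apply_symm_apply (S.T d w), O.iso h hh, hA', S.form, hy, mul_zero, map_zero,
        herm_zero_right S.u₁]
  have htrace : ∀ y, ∃ t : F, t + σ t = -S.h₂ y y := fun y =>
    exists_trace_eq S.uf.ne_refl S.uf.involutive (by rw [map_neg, self_fixed S.u₂])
  -- the contractions of the images are multiples of `A`
  have hΔ : ∀ y z, S.h₂ y w = 0 → S.h₂ z w = 0 → ∃ γ : F, ∀ c, S.ctr z (h (S.T c y)) = γ • A c := by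
    intro y z hy hz
    have hwy := herm_eq_zero_comm S.u₂ hy
    have hwz := herm_eq_zero_comm S.u₂ hz
    obtain ⟨θ, hθ⟩ : ∃ θ : F, σ θ ≠ θ := by
      by_contra hc
      push Not at hc
      exact S.uf.ne_refl (RingEquiv.ext hc)
    obtain ⟨Δ, hΔdef⟩ : ∃ Δ : Module.End F (Fin a → F), Δ = S.ctr z ∘ₗ h.toLinearMap ∘ₗ S.T.flip y := ⟨_, rfl⟩
    obtain ⟨Γ, hΓdef⟩ : ∃ Γ : Module.End F (Fin a → F), Γ = S.ctr y ∘ₗ h.symm.toLinearMap ∘ₗ S.T.flip z :=
      ⟨_, rfl⟩
    have key : ∀ β : F, ∃ t : F, σ β • (Δ * As) - β • (A * Γ) = t • 1 := by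
      intro β
      obtain ⟨t₁, ht₁⟩ := htrace y
      obtain ⟨t₂, ht₂⟩ := htrace (β • z)
      have hβz : S.h₂ (β • z) w = 0 := by rw [S.u₂.smul_left, hz, mul_zero]
      have hwβz := herm_eq_zero_comm S.u₂ hβz
      refine hscalar _ ((inH_comm ((O.eichler hw hy ht₁).conj hh) (O.eichler hw hβz ht₂)
        (fun X => ?_) (fun X => ?_)).congr fun X => ?_)
      · simp [el_apply, S.ctr_T, hP1, hw, hwy, hwβz, hA, hA', hperp, hy, hβz, hz, hwz, S.ctr_smul]
      · simp [el_apply, S.ctr_T, hP1, hw, hwy, hwβz, hA, hA', hperp, hy, hβz, hz, hwz, S.ctr_smul]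
      · simp [el_apply, S.ctr_T, hP1, hw, hwy, hwβz, hA, hA', hperp, hy, hβz, hz, hwz, S.ctr_smul, hΔdef, hΓdef]
        module
    obtain ⟨t₁, h1⟩ := key 1
    obtain ⟨t₂, h2⟩ := key θ
    rw [map_one, one_smul, one_smul] at h1
    refine ⟨(t₂ - θ * t₁) / (σ θ - θ) / s, fun c => ?_⟩
    have hne : σ θ - θ ≠ 0 := sub_ne_zero.2 hθ
    have h3 : (σ θ - θ) • (Δ * As) = (t₂ - θ * t₁) • (1 : Module.End F (Fin a → F)) := by
      linear_combination (norm := module) h2 - θ • h1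
    have h4 := LinearMap.congr_fun h3 (A c)
    rw [LinearMap.smul_apply, Module.End.mul_apply, hAsA, map_smul, LinearMap.smul_apply,
      Module.End.one_apply] at h4
    show S.ctr z (h (S.T c y)) = _
    rw [show S.ctr z (h (S.T c y)) = Δ c by rw [hΔdef]; rfl]
    apply smul_right_injective _ (mul_ne_zero hne hs0)
    show ((σ θ - θ) * s) • Δ c = _
    beta_reduce
    rw [mul_smul, h4, smul_smul]
    congr 1
    field_simp
  obtain ⟨v, hwv, hv⟩ := exists_partner S.u₂ hw0 hw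
  have hvw : S.h₂ v w = 1 := by rw [S.u₂.herm, hwv, map_one]
  have hlineW : ∀ y, S.h₂ y w = 0 → ∃ y', S.h₂ y' w = 0 ∧ ∀ c, h (S.T c y) = S.T (A c) y' := by
    intro y hy
    obtain ⟨φ, hφ⟩ : ∃ φ : (Fin b → F) →ₗ[F] F,
        ∀ z, φ z = σ (S.ctr z (h (S.T (Ae.symm (Pi.single ⟨0, by omega⟩ 1)) y)) ⟨0, by omega⟩) :=
      ⟨{ toFun := fun z => σ (S.ctr z (h (S.T (Ae.symm (Pi.single ⟨0, by omega⟩ 1)) y)) ⟨0, by omega⟩)
         map_add' := fun z z' => by rw [S.ctr_add, Pi.add_apply, map_add]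
         map_smul' := fun t z => by
          rw [S.ctr_smul, Pi.smul_apply, smul_eq_mul, map_mul, S.uf.involutive, RingHom.id_apply, smul_eq_mul] },
        fun z => rfl⟩
    obtain ⟨y', hy'⟩ := exists_hermFun S.u₂ φ
    have hctr : ∀ z, S.h₂ z w = 0 → ∀ c, S.ctr z (h (S.T c y)) = S.h₂ y' z • A c := by
      intro z hz c
      obtain ⟨γ, hγ⟩ := hΔ y z hy hz
      have : S.h₂ y' z = γ := by
        rw [S.u₂.herm, ← hy', hφ, S.uf.involutive, hγ, hAs']
        simp
      rw [this, hγ]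
    have hy'w : S.h₂ y' w = 0 := by
      have h1 := hctr w hw c₀
      rw [hperp c₀ y hy, eq_comm, smul_eq_zero] at h1
      exact h1.resolve_right fun e => hc₀ (hAinj (e.trans A.map_zero.symm))
    obtain ⟨N, hNdef⟩ : ∃ N : Module.End F (Fin a → F),
        N = S.ctr v ∘ₗ (h.toLinearMap ∘ₗ S.T.flip y - S.T.flip y' ∘ₗ A) := ⟨_, rfl⟩
    have hmap : ∀ c, h (S.T c y) = S.T (A c) y' + S.T (N c) w := fun c => by
      have := S.mem_line (X := h (S.T c y) - S.T (A c) y') hwv fun x hx => by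
        rw [map_sub, S.ctr_T, hctr x (herm_eq_zero_comm S.u₂ hx), sub_self]
      rw [sub_eq_iff_eq_add'] at this
      rw [this, hNdef]
      simp
    obtain ⟨Ns, hNs⟩ := S.exists_adj N
    have key : ∀ β : F, ∃ t : F, β • (N * As) - σ β • (A * Ns) = t • 1 := by
      intro β
      obtain ⟨t, ht⟩ := htrace (β • y)
      have hβy : S.h₂ (β • y) w = 0 := by rw [S.u₂.smul_left, hy, mul_zero]
      have hq : ∀ X, S.ctr y (h.symm X) = As (S.ctr y' X) + Ns (S.ctr w X) := fun X =>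
        herm_eq_of_forall S.u₁ fun d => by
          rw [S.u₁.herm, ← S.f_T, O.symm_eq hh, hmap, herm_add_right S.uf, S.f_T, S.f_T, ← Adj.symm S hAs,
            ← Adj.symm S hNs, map_add, herm_add_right S.u₁, ← S.u₁.herm, ← S.u₁.herm]
      have hnorm : S.h₂ y y = s * S.h₂ y' y' := by
        obtain ⟨d, hd⟩ := (S.u₁.nondegenerate c₀ hc₀).2
        have h1 := O.iso h hh (S.T c₀ y) (S.T d y)
        rw [hmap, hmap, S.uf.add_left, herm_add_right S.uf, herm_add_right S.uf, S.form, S.form, S.form, S.form,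
          hsim, S.form, hy'w, herm_eq_zero_comm S.u₂ hy'w, hw] at h1
        exact mul_left_cancel₀ hd (by linear_combination -h1)
      have hz : S.h₂ ((β * s) • y') w = 0 := by rw [S.u₂.smul_left, hy'w, mul_zero]
      have ht' : s * t + σ (s * t) = -S.h₂ ((β * s) • y') ((β * s) • y') := by
        rw [S.u₂.smul_left, herm_smul_right S.u₂, map_mul, map_mul, hsσ]
        rw [S.u₂.smul_left, herm_smul_right S.u₂] at ht
        linear_combination s * ht - s * β * σ β * hnorm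
      obtain ⟨e, he, hex⟩ := (O.eichler hw hβy ht).conj hh
      obtain ⟨g, hg, hgx⟩ := O.eichler hw hz ht'
      refine hscalar _ ⟨g⁻¹ * e, H.mul_mem (H.inv_mem hg) he, fun X => g.injective ?_⟩
      show g (g.symm (e X)) = _
      rw [g.apply_symm_apply, hex, hgx]
      simp [el_apply, S.ctr_T, hP1, hq, hmap, hA, hAAs', hw, herm_eq_zero_comm S.u₂ hy'w, S.ctr_smul, hsσ,
        map_mul]
      module
    obtain ⟨θ, hθ⟩ : ∃ θ : F, σ θ ≠ θ := by
      by_contra hc
      push Not at hc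
      exact S.uf.ne_refl (RingEquiv.ext hc)
    obtain ⟨t₁, h1⟩ := key 1
    obtain ⟨t₂, h2⟩ := key θ
    rw [map_one, one_smul, one_smul] at h1
    have hne : θ - σ θ ≠ 0 := sub_ne_zero.2 (Ne.symm hθ)
    have h3 : (θ - σ θ) • (N * As) = (t₂ - σ θ * t₁) • (1 : Module.End F (Fin a → F)) := by
      linear_combination (norm := module) h2 - σ θ • h1
    obtain ⟨n, hn⟩ : ∃ n : F, ∀ c, N c = n • A c := by
      refine ⟨(t₂ - σ θ * t₁) / (θ - σ θ) / s, fun c => ?_⟩
      have h4 := LinearMap.congr_fun h3 (A c)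
      rw [LinearMap.smul_apply, Module.End.mul_apply, hAsA, map_smul, LinearMap.smul_apply,
        Module.End.one_apply] at h4
      apply smul_right_injective _ (mul_ne_zero hne hs0)
      show ((θ - σ θ) * s) • N c = _
      beta_reduce
      rw [mul_smul, h4, smul_smul]
      congr 1
      field_simp
    refine ⟨y' + n • w, by rw [S.u₂.add_left, S.u₂.smul_left, hy'w, hw, mul_zero, add_zero], fun c => ?_⟩
    rw [hmap, hn, map_smul, LinearMap.smul_apply, map_add, map_smul]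
  -- the second factor on the hyperplane
  obtain ⟨c₁, hc₁⟩ : ∃ c, c = Ae.symm (Pi.single ⟨0, by omega⟩ 1) := ⟨_, rfl⟩
  obtain ⟨G, hGdef⟩ : ∃ G : (Fin b → F) →ₗ[F] (Fin b → F), G =
      (LinearMap.proj (R := F) (φ := fun _ : Fin a => Fin b → F) ⟨0, by omega⟩) ∘ₗ
        S.L.symm.toLinearMap ∘ₗ h.toLinearMap ∘ₗ S.T c₁ := ⟨_, rfl⟩
  have hG : ∀ y, S.h₂ y w = 0 → (∀ c, h (S.T c y) = S.T (A c) (G y)) ∧ S.h₂ (G y) w = 0 := by
    intro y hy
    obtain ⟨y', hy'w, hy'⟩ := hlineW y hy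
    have : G y = y' := by
      rw [hGdef]
      show S.L.symm (h (S.T c₁ y)) ⟨0, _⟩ = y'
      rw [hy', hc₁, hAs', ← S.hL, S.L.symm_apply_apply]
      funext j
      simp [Matrix.vecMulVec_apply]
    rw [this]
    exact ⟨hy', hy'w⟩
  have hGw : G w = w := by
    rw [hGdef]
    show S.L.symm (h (S.T c₁ w)) ⟨0, _⟩ = w
    rw [hA, hc₁, hAs', ← S.hL, S.L.symm_apply_apply]
    funext j
    simp [Matrix.vecMulVec_apply]
  obtain ⟨W, hWdef⟩ : ∃ W, W = LinearMap.ker (hermFun S.u₂ w) := ⟨_, rfl⟩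
  have hWmem : ∀ y, y ∈ W ↔ S.h₂ y w = 0 := fun y => by rw [hWdef]; rfl
  have hGinj : LinearMap.ker (G.domRestrict W) = ⊥ := LinearMap.ker_eq_bot'.2 fun y hy => Subtype.ext (by
    by_contra hy0
    have h1 := (hG y ((hWmem _).1 y.2)).1 c₁
    rw [show G y = 0 from hy, map_zero, LinearEquiv.map_eq_zero_iff] at h1
    have h2 := S.T_eq_zero hy0 h1
    rw [hc₁, LinearEquiv.map_eq_zero_iff] at h2
    simp at h2)
  have honto : ∀ x, S.h₂ x w = 0 → ∃ y, S.h₂ y w = 0 ∧ G y = x := by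
    intro x hx
    have hle : W.map G ≤ W := by
      rintro _ ⟨y, hy, rfl⟩
      exact (hWmem _).2 (hG y ((hWmem y).1 hy)).2
    have hdim : finrank F (W.map G) = finrank F W := by
      rw [← LinearMap.range_domRestrict, LinearMap.finrank_range_of_inj (LinearMap.ker_eq_bot.1 hGinj)]
    obtain ⟨y, hy, hyx⟩ : x ∈ W.map G := by
      rw [Submodule.eq_of_le_of_finrank_le hle hdim.ge]
      exact (hWmem x).2 hx
    exact ⟨y, (hWmem y).1 hy, hyx⟩
  obtain ⟨v', hv'⟩ : ∃ v', ∀ y, S.h₂ y w = 0 → S.h₂ (G y) v' = s⁻¹ * S.h₂ y v := by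
    obtain ⟨i₂, hi⟩ := (G.domRestrict W).exists_leftInverse_of_injective hGinj
    obtain ⟨v', hv'⟩ := exists_hermFun S.u₂ (s⁻¹ • (hermFun S.u₂ v ∘ₗ W.subtype ∘ₗ i₂))
    refine ⟨v', fun y hy => ?_⟩
    have h1 : i₂ (G y) = ⟨y, (hWmem y).2 hy⟩ := LinearMap.congr_fun hi ⟨y, (hWmem y).2 hy⟩
    rw [← hv']
    simp [h1, hermFun_apply]
  have hv'w : S.h₂ v' w = s⁻¹ := by
    have := hv' w hw
    rw [hGw, hwv, mul_one] at this
    rw [S.u₂.herm, this, map_inv₀, hsσ]
  obtain ⟨R, hRdef⟩ : ∃ R : Module.End F (Fin a → F),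
      R = S.ctr v ∘ₗ (h.toLinearMap ∘ₗ S.T.flip v - S.T.flip v' ∘ₗ A) := ⟨_, rfl⟩
  have hR : ∀ c, h (S.T c v) = S.T (A c) v' + S.T (R c) w := fun c => by
    have := S.mem_line (X := h (S.T c v) - S.T (A c) v') hwv fun x hx => by
      obtain ⟨y, hy, rfl⟩ := honto x (herm_eq_zero_comm S.u₂ hx)
      refine herm_eq_of_forall S.u₁ fun d => ?_
      rw [S.u₁.herm, ← hAs' d, ← S.f_T, ← (hG y hy).1, herm_sub_left S.uf, O.iso h hh, (hG y hy).1, S.form, S.form,
        hsim, S.u₂.herm v' (G y), hv' y hy, map_mul σ s⁻¹, map_inv₀, hsσ, ← S.u₂.herm, herm_zero_right S.u₁,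
        show ∀ x z : F, x * z - s * x * (s⁻¹ * z) = 0 from fun x z => by field_simp; ring, map_zero]
    rw [sub_eq_iff_eq_add'] at this
    rw [this, hRdef]
    simp
  have hdec : ∀ c y, S.T c y = S.T c (y - S.h₂ y w • v) + S.h₂ y w • S.T c v := fun c y => by
    rw [map_sub, map_smul, sub_add_cancel]
  have hyW : ∀ y, S.h₂ (y - S.h₂ y w • v) w = 0 := fun y => by
    rw [herm_sub_left S.u₂, S.u₂.smul_left, hvw, mul_one, sub_self]
  obtain ⟨N, hNdef⟩ : ∃ N : Module.End F (Fin a → F), N = Ae.symm.toLinearMap ∘ₗ R := ⟨_, rfl⟩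
  have hAN : ∀ c, A (N c) = R c := fun c => by rw [hNdef]; exact hAs' _
  have hN : ∀ t : F, N ≠ t • 1 := by
    intro t ht
    refine hhT ⟨A, G ∘ₗ (LinearMap.id - (hermFun S.u₂ w).smulRight v) + (hermFun S.u₂ w).smulRight (v' + t • w),
      fun c y => ?_⟩
    rw [hdec c y, map_add, map_smul, (hG _ (hyW y)).1, hR, ← hAN, ht]
    simp [hermFun_apply]
  obtain ⟨u, e, hu, he, hne⟩ := exists_transv_nonscalar S.u₁ ha hq hN
  have hAu : S.h₁ (A u) (A u) = 0 := by rw [hsim, hu, mul_zero]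
  have he' : e / s + σ (e / s) = 0 := by
    rw [map_div₀, hsσ, ← add_div, he, zero_div]
  obtain ⟨g₁, hg₁, hg₁x⟩ := O.left _ (isSU_utrv S.u₁ hu he)
  obtain ⟨g₂, hg₂, hg₂x⟩ := O.left _ (isSU_utrv S.u₁ hAu he')
  obtain ⟨D, hDdef⟩ : ∃ D : Module.End F (Fin a → F), ∀ c,
      D c = (e * S.h₁ c u) • N u - (e * S.h₁ (N c) u) • u - (e * e * (S.h₁ c u * S.h₁ (N u) u)) • u :=
    ⟨(e • hermFun S.u₁ u).smulRight (N u) - ((e • hermFun S.u₁ u) ∘ₗ N).smulRight u -
      ((e * e * S.h₁ (N u) u) • hermFun S.u₁ u).smulRight u, fun c => by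
        simp [hermFun_apply]; module⟩
  obtain ⟨M, hMdef⟩ : ∃ M : Module.End F (Fin a → F), M = s • (A ∘ₗ D ∘ₗ Ae.symm.toLinearMap) := ⟨_, rfl⟩
  have hM : ∀ c, M (A c) = s • A (D c) := fun c => by
    rw [hMdef]
    show s • A (D (Ae.symm (A c))) = _
    rw [← hAe c, Ae.symm_apply_apply]
  obtain ⟨t, ht⟩ := hscalar M ⟨g₂⁻¹ * (h * g₁ * h⁻¹), H.mul_mem (H.inv_mem hg₂)
      (H.mul_mem (H.mul_mem hh hg₁) (H.inv_mem hh)), fun X => by
    obtain ⟨Y, rfl⟩ := h.surjective X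
    apply g₂.injective
    show g₂ (g₂.symm (h (g₁ (h.symm (h Y))))) = _
    rw [g₂.apply_symm_apply, h.symm_apply_apply]
    have := S.ext_T (g := h.toLinearMap ∘ₗ g₁.toLinearMap)
      (g' := g₂.toLinearMap ∘ₗ (LinearMap.id + S.el w w M) ∘ₗ h.toLinearMap) fun c y => by
      have hB : h (g₁ (S.T c v)) = g₂ (h (S.T c v) + S.el w w M (h (S.T c v))) := by
        rw [hg₁x, hR, hR, el_apply, map_add (S.ctr w), S.ctr_T, S.ctr_T, hw, zero_smul, add_zero, hv'w,
          map_smul, hM, smul_smul, inv_mul_cancel₀ hs0, one_smul, map_add, map_add, hg₂x, hg₂x, hg₂x]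
        simp only [utrv_mulVec, ← hAN, map_add, map_smul, LinearMap.add_apply, LinearMap.smul_apply, hsim, hDdef,
          map_sub, LinearMap.sub_apply, smul_add, herm_sub_left S.u₁, S.u₁.smul_left, S.u₁.add_left, hu]
        match_scalars <;> field_simp <;> ring
      have hC : ∀ z, S.h₂ z w = 0 → h (g₁ (S.T c z)) = g₂ (h (S.T c z) + S.el w w M (h (S.T c z))) := by
        intro z hz
        rw [hg₁x, (hG z hz).1, (hG z hz).1, el_apply, S.ctr_T, (hG z hz).2, zero_smul, map_zero, map_zero,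
          LinearMap.zero_apply, add_zero, hg₂x, utrv_mulVec, utrv_mulVec, map_add, map_smul, hsim]
        congr 2
        field_simp
      show h (g₁ (S.T c y)) = g₂ (h (S.T c y) + S.el w w M (h (S.T c y)))
      rw [hdec c y]
      simp only [map_add, map_smul] at hC hB ⊢
      rw [hC _ (hyW y), hB]
      module
    exact LinearMap.congr_fun this Y⟩
  obtain ⟨c, hc⟩ := hne (s⁻¹ * t)
  refine hc ?_
  rw [← hDdef]
  refine hAinj ?_
  have h1 := hM c
  rw [ht, LinearMap.smul_apply, Module.End.one_apply] at h1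
  rw [map_smul, mul_smul, h1, smul_smul, inv_mul_cancel₀ hs0, one_smul]

end TU

end Cfsg.Agent.UnitTensor
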