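import Cfsg.Agent.Lib.TransvMax.UnitaryTools

/-!
Isotropic vectors of a unitary space and moves between them by special isometries.
-/

set_option autoImplicit false

namespace Cfsg.Agent.UnitTensor

open scoped Matrix MatrixGroups
open Module Submodule
open Cfsg.Agent Cfsg.Agent.TransvMax

variable {F : Type*} [Field F] {n : ℕ} {σ : F ≃+* F} {h : (Fin n → F) → (Fin n → F) → F}

/-- An isometry of determinant one. -/
def IsSU (h : (Fin n → F) → (Fin n → F) → F) (g : GL (Fin n) F) : Prop :=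
  g ∈ Cfsg.Geo.specialLinear (Fin n) F ∧
    ∀ x y, h ((g : Matrix (Fin n) (Fin n) F) *ᵥ x) ((g : Matrix (Fin n) (Fin n) F) *ᵥ y) = h x y

theorem IsSU.mul {g g' : GL (Fin n) F} (hg : IsSU h g) (hg' : IsSU h g') : IsSU h (g * g') :=
  ⟨Subgroup.mul_mem _ hg.1 hg'.1, fun x y => by
    rw [Units.val_mul, ← Matrix.mulVec_mulVec, ← Matrix.mulVec_mulVec, hg.2, hg'.2]⟩

theorem IsSU.one : IsSU h (1 : GL (Fin n) F) :=
  ⟨Subgroup.one_mem _, fun x y => by rw [Units.val_one, Matrix.one_mulVec, Matrix.one_mulVec]⟩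

variable (hh : Cfsg.Geo.IsUnitaryForm σ h)

include hh

theorem isSU_utrv {u : Fin n → F} (hu : h u u = 0) {e : F} (he : e + σ e = 0) : IsSU h (utrv hh hu e) :=
  ⟨trv_mem_specialLinear _ _ _, utrv_isometry hh hu he⟩

theorem isSU_hSiegel {u z : Fin n → F} (hu : h u u = 0) (hz : h z u = 0) {c : F}
    (hc : c + σ c = -h z z) : IsSU h (hSiegel hh hu hz c) :=
  ⟨hSiegel_mem_SL hh hu hz c, hSiegel_isometry hh hu hz hc⟩

theorem self_fixed (x : Fin n → F) : σ (h x x) = h x x := (hh.herm x x).symm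

/-- Changing the norm along an isotropic vector. -/
theorem exists_shift {u x : Fin n → F} (hu : h u u = 0) (hx : h u x = 1) :
    ∃ α : F, h (x + α • u) (x + α • u) = 0 := by
  obtain ⟨α, hα⟩ := exists_trace_eq hh.ne_refl hh.involutive (a := -h x x) (by rw [map_neg, self_fixed hh])
  refine ⟨α, ?_⟩
  have hxu : h x u = 1 := by rw [hh.herm, hx, map_one]
  rw [hh.add_left, herm_add_right hh, herm_add_right hh, hh.smul_left, hh.smul_left, herm_smul_right hh,
    herm_smul_right hh, hu, hx, hxu]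
  linear_combination hα

theorem exists_partner {u : Fin n → F} (hu0 : u ≠ 0) (hu : h u u = 0) : ∃ v, h u v = 1 ∧ h v v = 0 := by
  obtain ⟨x, hx⟩ := (hh.nondegenerate u hu0).2
  have h1 : h u ((σ (h u x))⁻¹ • x) = 1 := by
    rw [herm_smul_right hh, map_inv₀, hh.involutive, inv_mul_cancel₀ hx]
  obtain ⟨α, hα⟩ := exists_shift hh hu h1
  exact ⟨_, by rw [herm_add_right hh, herm_smul_right hh α, hu, mul_zero, add_zero]; exact h1, hα⟩

/-- A non-zero isotropic vector orthogonal to given vectors. -/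
theorem exists_iso_perp [Finite F] {k : ℕ} (v : Fin k → Fin n → F) (hk : 2 * k < n) (hk2 : k + 1 < n) :
    ∃ x, x ≠ 0 ∧ h x x = 0 ∧ ∀ i, h x (v i) = 0 := by
  obtain ⟨p, hp, hpp⟩ := exists_aniso_perp hh v (by rwa [Fintype.card_fin])
  have h1 := finrank_ker_ge hh (Fin.cons p v : Fin (k + 1) → Fin n → F)
  rw [Fintype.card_fin] at h1
  obtain ⟨q, hq, hq0⟩ := Submodule.exists_mem_ne_zero_of_ne_bot
    (show LinearMap.ker (LinearMap.pi fun i => hermFun hh ((Fin.cons p v : Fin (k + 1) → Fin n → F) i)) ≠ ⊥ from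
      fun e => by rw [e, finrank_bot] at h1; omega)
  have hqp : h q p = 0 := congrFun (LinearMap.mem_ker.1 hq) 0
  have hqv : ∀ i, h q (v i) = 0 := fun i => congrFun (LinearMap.mem_ker.1 hq) i.succ
  by_cases hqq : h q q = 0
  · exact ⟨q, hq0, hqq, hqv⟩
  obtain ⟨s, hs⟩ := exists_norm_eq hh.ne_refl hh.involutive (a := -h q q / h p p) (by
    rw [map_div₀, map_neg, self_fixed hh, self_fixed hh])
  have hs0 : s ≠ 0 := by
    rintro rfl
    rw [zero_mul, eq_comm, div_eq_zero_iff, neg_eq_zero] at hs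
    exact hs.elim hqq hpp
  refine ⟨q + s • p, fun e => ?_, ?_, fun i => ?_⟩
  · have h2 : h (q + s • p) p = 0 := by rw [e, herm_zero_left hh]
    rw [hh.add_left, hh.smul_left, hqp, zero_add, mul_eq_zero] at h2
    exact h2.elim hs0 hpp
  · have hpq : h p q = 0 := herm_eq_zero_comm hh hqp
    rw [hh.add_left, herm_add_right hh, herm_add_right hh, hh.smul_left, hh.smul_left, herm_smul_right hh,
      herm_smul_right hh, hqp, hpq, mul_zero, mul_zero, ← mul_assoc, hs]
    field_simp
    ring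
  · rw [hh.add_left, hh.smul_left, hqv, hp, mul_zero, add_zero]

theorem exists_iso [Finite F] (hn : 2 ≤ n) : ∃ x, x ≠ 0 ∧ h x x = 0 := by
  obtain ⟨x, hx0, hx, -⟩ := exists_iso_perp hh (![] : Fin 0 → Fin n → F) (by omega) (by omega)
  exact ⟨x, hx0, hx⟩

/-- Isotropic vectors in a perp span it once there is a hyperbolic pair there. -/
theorem mem_of_iso (N P : Submodule F (Fin n → F)) {p q : Fin n → F} (hp : p ∈ N) (hq : q ∈ N)
    (hpp : h p p = 0) (hqq : h q q = 0) (hpq : h p q = 1)
    (hP : ∀ x ∈ N, h x x = 0 → x ∈ P) : N ≤ P := by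
  intro y hy
  have hqp : h q p = 1 := by rw [hh.herm, hpq, map_one]
  obtain ⟨d, hd⟩ : ∃ d, d = y - h y q • p - h y p • q := ⟨_, rfl⟩
  have hdp : h d p = 0 := by
    rw [hd, herm_sub_left hh, herm_sub_left hh, hh.smul_left, hh.smul_left, hpp, hqp]; ring
  have hdq : h d q = 0 := by
    rw [hd, herm_sub_left hh, herm_sub_left hh, hh.smul_left, hh.smul_left, hqq, hpq]; ring
  obtain ⟨μ, hμ⟩ := exists_trace_eq hh.ne_refl hh.involutive (a := -h d d) (by rw [map_neg, self_fixed hh])
  have hdN : d ∈ N := by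
    rw [hd]; exact N.sub_mem (N.sub_mem hy (N.smul_mem _ hp)) (N.smul_mem _ hq)
  have hiso : h (d + p + μ • q) (d + p + μ • q) = 0 := by
    simp only [hh.add_left, herm_add_right hh, hh.smul_left, herm_smul_right hh, hpp, hqq, hpq, hqp, hdp, hdq,
      herm_eq_zero_comm hh hdp, herm_eq_zero_comm hh hdq]
    linear_combination hμ
  have h1 := hP _ (N.add_mem (N.add_mem hdN hp) (N.smul_mem μ hq)) hiso
  have hdP : d ∈ P := by
    rw [show d = d + p + μ • q - p - μ • q by abel]
    exact P.sub_mem (P.sub_mem h1 (hP p hp hpp)) (P.smul_mem _ (hP q hq hqq))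
  rw [show y = d + h y q • p + h y p • q by rw [hd]; abel]
  exact P.add_mem (P.add_mem hdP (P.smul_mem _ (hP p hp hpp))) (P.smul_mem _ (hP q hq hqq))

/-- Everything is a sum of isotropic vectors. -/
theorem top_of_iso [Finite F] (hn : 2 ≤ n) (P : Submodule F (Fin n → F))
    (hP : ∀ x, h x x = 0 → x ∈ P) (x : Fin n → F) : x ∈ P := by
  obtain ⟨p, hp0, hp⟩ := exists_iso hh hn
  obtain ⟨q, hpq, hq⟩ := exists_partner hh hp0 hp
  exact mem_of_iso hh ⊤ P trivial trivial hp hq hpq (fun y _ hy => hP y hy) (Submodule.mem_top (x := x))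

/-- A map with all isotropic vectors as eigenvectors is scalar. -/
theorem scalar_of_iso_eigen [Finite F] (hn : 2 ≤ n) (N : Module.End F (Fin n → F))
    (hN : ∀ u, h u u = 0 → ∃ s : F, N u = s • u) : ∃ s : F, N = s • 1 := by
  obtain ⟨p, hp0, hp⟩ := exists_iso hh hn
  obtain ⟨s, hs⟩ := hN p hp
  have step : ∀ u v : Fin n → F, h u u = 0 → h v v = 0 → h u v ≠ 0 → ∀ s : F, N u = s • u → N v = s • v := by
    intro u v hu hv huv s hs
    obtain ⟨t, ht⟩ := hN v hv
    obtain ⟨e, he0, he⟩ := exists_trace_zero hh.ne_refl hh.involutive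
    set l : F := e / σ (h u v) with hl
    have hl0 : l ≠ 0 := div_ne_zero he0 (by simpa using huv)
    have hvu : h v u = σ (h u v) := hh.herm v u
    have h1 : l * σ (h u v) = e := by
      rw [hl, div_mul_cancel₀]
      simpa using huv
    obtain ⟨r, hr⟩ := hN (u + l • v) (by
      simp only [hh.add_left, herm_add_right hh, hh.smul_left, herm_smul_right hh, hu, hv, hvu]
      have h2 : σ l * h u v = σ e := by rw [← h1, map_mul, hh.involutive]
      linear_combination h1 + h2 + he)
    rw [map_add, map_smul, hs, ht] at hr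
    have h2 : (s - r) • u + (l * (t - r)) • v = 0 := by
      linear_combination (norm := module) hr
    have h3 := congrArg (fun x => h x v) h2
    simp only [hh.add_left, hh.smul_left, hv, mul_zero, add_zero, herm_zero_left hh, mul_eq_zero] at h3
    have hsr := sub_eq_zero.1 (h3.resolve_right huv)
    have h4 := congrArg (fun x => h x u) h2
    simp only [hh.add_left, hh.smul_left, hu, mul_zero, zero_add, herm_zero_left hh, mul_eq_zero] at h4
    have htr := sub_eq_zero.1 ((h4.resolve_right (by rw [hvu]; simpa using huv)).resolve_left hl0)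
    rw [ht, htr, ← hsr]
  have all : ∀ v, h v v = 0 → N v = s • v := by
    intro v hv
    by_cases hpv : h p v = 0
    · by_cases hdep : ∃ r : F, v = r • p
      · obtain ⟨r, rfl⟩ := hdep
        rw [map_smul, hs, smul_comm]
      push Not at hdep
      have hli : LinearIndependent F ![p, v] :=
        (LinearIndependent.pair_iff' hp0).2 fun r hr => hdep r hr.symm
      obtain ⟨x, hx⟩ := exists_herm_values hh hli ![1, 1]
      have hxp : h x p = 1 := by simpa using hx 0
      have hxv : h x v = 1 := by simpa using hx 1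
      obtain ⟨α, hα⟩ := exists_shift hh hp (x := x) (by rw [hh.herm, hxp, map_one])
      have h1 : h p (x + α • p) = 1 := by
        rw [herm_add_right hh, herm_smul_right hh, hp, mul_zero, add_zero, hh.herm, hxp, map_one]
      have h2 := step p _ hp hα (by rw [h1]; exact one_ne_zero) s hs
      refine step _ v hα hv ?_ s h2
      rw [hh.add_left, hh.smul_left, hpv, mul_zero, add_zero, hxv]
      exact one_ne_zero
    · exact step p v hp hv hpv s hs
  refine ⟨s, LinearMap.ext fun x => ?_⟩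
  exact top_of_iso hh hn (LinearMap.eqLocus N (s • 1)) (fun v hv => by
    show N v = (s • (1 : Module.End F (Fin n → F))) v
    rw [all v hv]; rfl) x

/-- Moving one isotropic line to another. -/
theorem exists_move {w w' : Fin n → F} (hw0 : w ≠ 0) (hw'0 : w' ≠ 0) (hw : h w w = 0) (hw' : h w' w' = 0) :
    ∃ g, IsSU h g ∧ ∃ s : F, s ≠ 0 ∧ (g : Matrix (Fin n) (Fin n) F) *ᵥ w = s • w' := by
  have step : ∀ u v : Fin n → F, h u u = 0 → h v v = 0 → h u v ≠ 0 →
      ∃ g, IsSU h g ∧ ∃ s : F, s ≠ 0 ∧ (g : Matrix (Fin n) (Fin n) F) *ᵥ u = s • v := by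
    intro u v hu hv huv
    obtain ⟨μ, hμ0, hμ⟩ := exists_trace_zero hh.ne_refl hh.involutive
    have hvu : h v u = σ (h u v) := hh.herm v u
    obtain ⟨ν, hν⟩ : ∃ ν, ν = -(μ * (h u v * σ (h u v)))⁻¹ := ⟨_, rfl⟩
    have hden : μ * (h u v * σ (h u v)) ≠ 0 := mul_ne_zero hμ0 (mul_ne_zero huv (by simpa using huv))
    have hνt : ν + σ ν = 0 := by
      rw [hν, map_neg, map_inv₀, map_mul, map_mul, hh.involutive,
        show σ μ = -μ by linear_combination hμ, mul_comm (σ (h u v)), neg_mul, inv_neg, neg_neg]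
      ring
    refine ⟨utrv hh hu ν * utrv hh hv μ, (isSU_utrv hh hu hνt).mul (isSU_utrv hh hv hμ), μ * h u v,
      mul_ne_zero hμ0 huv, ?_⟩
    rw [Units.val_mul, ← Matrix.mulVec_mulVec, utrv_mulVec, utrv_mulVec, hh.add_left, hh.smul_left, hu, hvu,
      zero_add]
    have : ν * (μ * h u v * σ (h u v)) = -1 := by
      have : σ (h u v) ≠ 0 := by simpa using huv
      rw [hν]; field_simp
    rw [this, neg_smul, one_smul]
    abel
  by_cases hdep : ∃ r : F, w' = r • w
  · obtain ⟨r, rfl⟩ := hdep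
    have hr : r ≠ 0 := fun e => hw'0 (by rw [e, zero_smul])
    exact ⟨1, IsSU.one, r⁻¹, inv_ne_zero hr, by
      rw [Units.val_one, Matrix.one_mulVec, smul_smul, inv_mul_cancel₀ hr, one_smul]⟩
  push Not at hdep
  by_cases hww : h w w' = 0
  · have hli : LinearIndependent F ![w, w'] :=
      (LinearIndependent.pair_iff' hw0).2 fun r hr => hdep r hr.symm
    obtain ⟨x, hx⟩ := exists_herm_values hh hli ![1, 1]
    have hxw : h x w = 1 := by simpa using hx 0
    have hxw' : h x w' = 1 := by simpa using hx 1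
    obtain ⟨α, hα⟩ := exists_shift hh hw (x := x) (by rw [hh.herm, hxw, map_one])
    obtain ⟨g, hg, s, hs, hgw⟩ := step w _ hw hα (by
      rw [herm_add_right hh, herm_smul_right hh, hw, mul_zero, add_zero, hh.herm, hxw, map_one]
      exact one_ne_zero)
    obtain ⟨g', hg', s', hs', hgw'⟩ := step _ w' hα hw' (by
      rw [hh.add_left, hh.smul_left, hww, mul_zero, add_zero, hxw']; exact one_ne_zero)
    refine ⟨g' * g, hg'.mul hg, s * s', mul_ne_zero hs hs', ?_⟩
    rw [Units.val_mul, ← Matrix.mulVec_mulVec, hgw, Matrix.mulVec_smul, hgw', smul_smul]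
  · exact step w w' hw hw' hww

theorem finrank_hPerp_add [Finite F] (K : Submodule F (Fin n → F)) :
    finrank F (hPerp hh K) + finrank F K = n := by
  have h1 := finrank_hPerp_ge hh K
  rw [Fintype.card_fin] at h1
  set B := Module.finBasis F K
  let L : (Fin n → F) →ₗ[F] (Fin (finrank F K) → F) := LinearMap.pi fun i => hermFun hh ((B i : K) : Fin n → F)
  have hsurj : LinearMap.range L = ⊤ := LinearMap.range_eq_top.2 fun α => by
    obtain ⟨x, hx⟩ := exists_herm_values hh (B.linearIndependent.map' K.subtype K.ker_subtype) α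
    exact ⟨x, funext hx⟩
  have h2 := L.finrank_range_add_finrank_ker
  rw [hsurj, finrank_top, Module.finrank_fin_fun, Module.finrank_fin_fun] at h2
  have h3 : hPerp hh K ≤ LinearMap.ker L := fun y hy => LinearMap.mem_ker.2 (funext fun i => hy _ (B i).2)
  have h4 := Submodule.finrank_mono h3
  omega

omit hh in
/-- A unipotent isometry fixes a non-zero vector orthogonal to all its fixed vectors. -/
theorem exists_fixed_radical (hh : Cfsg.Geo.IsUnitaryForm σ h) {g : Module.End F (Fin n → F)}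
    (hg : ∀ x y, h (g x) (g y) = h x y) {m : ℕ} (hm : (g - 1) ^ m = 0) (hne : g ≠ 1) :
    ∃ v, v ≠ 0 ∧ g v = v ∧ h v v = 0 ∧ ∀ d, g d = d → h v d = 0 := by
  classical
  have hex : ∃ j, (g - 1) ^ j = 0 := ⟨m, hm⟩
  obtain ⟨j, hjdef⟩ : ∃ j, j = Nat.find hex := ⟨_, rfl⟩
  have hj : (g - 1) ^ j = 0 := hjdef ▸ Nat.find_spec hex
  obtain ⟨i, rfl⟩ : ∃ i, j = i + 2 := by
    refine ⟨j - 2, ?_⟩
    rcases Nat.lt_or_ge j 2 with h2 | h2
    · exfalso
      refine hne (sub_eq_zero.1 ?_)
      rcases j with _ | _ | j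
      · rw [pow_zero] at hj
        rw [← mul_one (g - 1), hj, mul_zero]
      · rwa [zero_add, pow_one] at hj
      · omega
    · omega
  have hmin := Nat.find_min hex (show i + 1 < Nat.find hex by omega)
  obtain ⟨x, hx⟩ : ∃ x, ((g - 1) ^ (i + 1)) x ≠ 0 := by
    by_contra hc
    push Not at hc
    exact hmin (LinearMap.ext hc)
  set v := ((g - 1) ^ (i + 1)) x with hv
  have hfix : g v = v := by
    have h0 : (g - 1) v = 0 := by
      rw [hv, ← Module.End.mul_apply, ← pow_succ', hj]
      rfl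
    rwa [LinearMap.sub_apply, Module.End.one_apply, sub_eq_zero] at h0
  have hperp : ∀ d, g d = d → h v d = 0 := fun d hd => by
    set z := ((g - 1) ^ i) x with hz
    have hvz : v = g z - z := by
      rw [hv, pow_succ', Module.End.mul_apply, LinearMap.sub_apply, Module.End.one_apply]
    rw [hvz, herm_sub_left hh]
    conv_lhs => arg 1; arg 2; rw [← hd]
    rw [hg, sub_self]
  exact ⟨v, hx, hfix, hperp v hfix, hperp⟩

end Cfsg.Agent.UnitTensor
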