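import Mathlib

/-!
Non-trivial common zeros on a subfield of polynomials of small degree.
-/

set_option autoImplicit false

namespace Cfsg.Agent.UnitTensor

open MvPolynomial

variable {F : Type*} [Field F] [Fintype F] {κ : Type*} [Fintype κ] [DecidableEq κ]

theorem sum_monomial_eq_zero (F₀ : Subfield F) [Fintype F₀] (d : κ →₀ ℕ)
    (hd : ∃ i, d i < Fintype.card F₀ - 1) :
    ∑ t : κ → F₀, ∏ i, (t i : F) ^ d i = 0 := by
  classical
  obtain ⟨i, hi⟩ := hd
  rw [show (∑ t : κ → F₀, ∏ i, (t i : F) ^ d i) = ∏ i, ∑ s : F₀, (s : F) ^ d i from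
    (Fintype.prod_sum fun i (s : F₀) => (s : F) ^ d i).symm]
  refine Finset.prod_eq_zero (Finset.mem_univ i) ?_
  have := congrArg (F₀.subtype : F₀ → F) (FiniteField.sum_pow_lt_card_sub_one F₀ (d i) hi)
  simpa using this

theorem sum_eval_eq_zero (F₀ : Subfield F) [Fintype F₀] (P : MvPolynomial κ F)
    (hP : P.totalDegree < (Fintype.card F₀ - 1) * Fintype.card κ) :
    ∑ t : κ → F₀, eval (fun i => (t i : F)) P = 0 := by
  classical
  simp only [eval_eq']
  rw [Finset.sum_comm]
  refine Finset.sum_eq_zero fun d hd => ?_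
  rw [← Finset.mul_sum, sum_monomial_eq_zero F₀ d, mul_zero]
  by_contra hall
  push Not at hall
  have h1 : (Fintype.card F₀ - 1) * Fintype.card κ ≤ ∑ i, d i := by
    rw [mul_comm]
    refine le_trans ?_ (Finset.card_nsmul_le_sum Finset.univ (fun i => d i) _ fun i _ => hall i)
    simp
  have h2 := le_totalDegree hd
  rw [Finsupp.sum_fintype _ _ (fun _ => rfl)] at h2
  omega

/-- A non-trivial common zero of two polynomials over a subfield, given the trivial one. -/
theorem exists_zero (F₀ : Subfield F) (P Q : MvPolynomial κ F) {m n : ℕ} (hm : P.totalDegree ≤ m)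
    (hn : Q.totalDegree ≤ n) (hlt : m + n < Fintype.card κ)
    (hPv : ∀ t : κ → F₀, eval (fun i => (t i : F)) P ∈ F₀)
    (hQv : ∀ t : κ → F₀, eval (fun i => (t i : F)) Q ∈ F₀)
    (hP0 : eval (0 : κ → F) P = 0) (hQ0 : eval (0 : κ → F) Q = 0) :
    ∃ t : κ → F₀, t ≠ 0 ∧ eval (fun i => (t i : F)) P = 0 ∧ eval (fun i => (t i : F)) Q = 0 := by
  classical
  have : Fintype F₀ := Fintype.ofFinite F₀
  by_contra hall
  push Not at hall
  set Q₀ := Fintype.card F₀ with hQ₀
  have hQ₀1 : 1 < Q₀ := Fintype.one_lt_card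
  have hind : ∀ v : F, v ∈ F₀ → 1 - v ^ (Q₀ - 1) = if v = 0 then 1 else 0 := by
    intro v hv
    by_cases h : v = 0
    · rw [if_pos h, h, zero_pow (by omega), sub_zero]
    · rw [if_neg h]
      have h1 := congrArg (F₀.subtype : F₀ → F)
        (FiniteField.pow_card_sub_one_eq_one (⟨v, hv⟩ : F₀) (fun e => h (congrArg Subtype.val e)))
      rw [map_pow, map_one] at h1
      rw [show v ^ (Q₀ - 1) = 1 from h1, sub_self]
  have hdeg : ((1 - P ^ (Q₀ - 1)) * (1 - Q ^ (Q₀ - 1))).totalDegree < (Q₀ - 1) * Fintype.card κ := by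
    have hp : ∀ R : MvPolynomial κ F, (1 - R ^ (Q₀ - 1)).totalDegree ≤ (Q₀ - 1) * R.totalDegree := fun R =>
      (totalDegree_sub _ _).trans (max_le (by simp) (totalDegree_pow _ _))
    calc _ ≤ (Q₀ - 1) * P.totalDegree + (Q₀ - 1) * Q.totalDegree :=
          (totalDegree_mul _ _).trans (Nat.add_le_add (hp P) (hp Q))
      _ ≤ (Q₀ - 1) * (m + n) := by
          rw [← Nat.mul_add]; exact Nat.mul_le_mul_left _ (Nat.add_le_add hm hn)
      _ < _ := Nat.mul_lt_mul_of_pos_left hlt (by omega)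
  have h := sum_eval_eq_zero F₀ _ hdeg
  rw [Finset.sum_eq_single (0 : κ → F₀)] at h
  · have e : (fun i => (((0 : κ → F₀) i : F₀) : F)) = (0 : κ → F) := funext fun i => rfl
    rw [e, map_mul, map_sub, map_sub, map_one, map_pow, map_pow, hP0, hQ0, zero_pow (by omega)] at h
    simp at h
  · intro t _ ht
    rw [map_mul, map_sub, map_sub, map_one, map_pow, map_pow, hind _ (hPv t), hind _ (hQv t)]
    by_cases h1 : eval (fun i => (t i : F)) P = 0
    · rw [if_neg (hall t ht h1), mul_zero]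
    · rw [if_neg h1, zero_mul]
  · simp

theorem totalDegree_det_le {r : ℕ} (M : Matrix (Fin r) (Fin r) (MvPolynomial κ F))
    (hM : ∀ i j, (M i j).totalDegree ≤ 1) : M.det.totalDegree ≤ r := by
  rw [Matrix.det_apply]
  refine totalDegree_finsetSum_le fun π _ => ?_
  rw [Units.smul_def, zsmul_eq_mul]
  refine (totalDegree_mul _ _).trans ?_
  have h0 : ((Equiv.Perm.sign π : ℤ) : MvPolynomial κ F).totalDegree = 0 := by
    rw [← map_intCast (MvPolynomial.C : F →+* MvPolynomial κ F), totalDegree_C]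
  rw [h0, zero_add]
  refine (totalDegree_finsetProd _ _).trans ?_
  refine (Finset.sum_le_card_nsmul _ _ 1 fun i _ => hM _ _).trans ?_
  simp

end Cfsg.Agent.UnitTensor
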