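import Cfsg.Agent.Lib.UnitTensor.Line
import Cfsg.Agent.Lib.UnitTensor.Scan

/-!
Enlarging the part of a line of tensors whose image is orthogonal to a singular line.
-/

set_option autoImplicit false

namespace Cfsg.Agent.UnitTensor

open scoped Matrix MatrixGroups
open Module Submodule
open Cfsg.Agent Cfsg.Agent.TransvMax Cfsg.Agent.ExtFieldMax

variable {F : Type*} [Field F] [Fintype F] {ι : Type} [Fintype ι] [DecidableEq ι] {a b : ℕ}
  {σ : F ≃+* F} {f : (ι → F) → (ι → F) → F} {S : TU σ f a b}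
  {H : Subgroup ((ι → F) ≃ₗ[F] (ι → F))}

namespace TU

/-- A larger part of a line with image orthogonal to a singular line. -/
def Bigger (S : TU σ f a b) (H : Subgroup ((ι → F) ≃ₗ[F] (ι → F))) (d : ℕ) : Prop :=
  ∃ e ∈ H, ¬ S.IsT e ∧ ∃ w, w ≠ 0 ∧ S.h₂ w w = 0 ∧ ∃ K : Submodule F (Fin a → F),
    d < finrank F K ∧ ∀ c ∈ K, S.ctr w (e.symm (S.T c w)) = 0

theorem bigger_of_vec {e : (ι → F) ≃ₗ[F] (ι → F)} (he : e ∈ H) (heT : ¬ S.IsT e) {w : Fin b → F}
    (hw0 : w ≠ 0) (hw : S.h₂ w w = 0) {K : Submodule F (Fin a → F)} {c₀ : Fin a → F} (hc₀ : c₀ ∉ K)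
    (hK : ∀ c ∈ K, S.ctr w (e.symm (S.T c w)) = 0) (h₀ : S.ctr w (e.symm (S.T c₀ w)) = 0) :
    S.Bigger H (finrank F K) := by
  refine ⟨e, he, heT, w, hw0, hw, K ⊔ (F ∙ c₀), Submodule.finrank_lt_finrank_of_lt
    (lt_of_le_of_ne le_sup_left fun h => hc₀ (by
      rw [h]; exact Submodule.mem_sup_right (Submodule.mem_span_singleton_self c₀))), fun c hc => ?_⟩
  obtain ⟨c₁, hc₁, c₂, hc₂, rfl⟩ := Submodule.mem_sup.1 hc
  obtain ⟨s, rfl⟩ := Submodule.mem_span_singleton.1 hc₂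
  simp [hK c₁ hc₁, h₀]

omit [Fintype F] in
theorem Over.pow_T {g : (ι → F) ≃ₗ[F] (ι → F)} {g₁ : (Fin a → F) →ₗ[F] (Fin a → F)}
    {g₂ : (Fin b → F) →ₗ[F] (Fin b → F)} (hg : ∀ c y, g (S.T c y) = S.T (g₁ c) (g₂ y)) (j : ℕ) :
    ∀ c y, (g ^ j) (S.T c y) = S.T ((g₁ ^ j) c) ((g₂ ^ j) y) := by
  induction j with
  | zero => intro c y; simp
  | succ j ih =>
    intro c y
    rw [pow_succ, LinearEquiv.mul_apply, hg, ih, pow_succ, pow_succ, Module.End.mul_apply, Module.End.mul_apply]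

/-- A unipotent product map, normalised. -/
theorem unip_factors (ha : 0 < a) (hb : 0 < b) {g : (ι → F) ≃ₗ[F] (ι → F)} (hiso : ∀ x y, f (g x) (g y) = f x y)
    (hT : S.IsT g) {p : ℕ} [Fact p.Prime] [CharP F p] (hp : g ^ p = 1) :
    ∃ (G₁ : Module.End F (Fin a → F)) (G₂ : Module.End F (Fin b → F)),
      (∀ c y, g (S.T c y) = S.T (G₁ c) (G₂ y)) ∧ (G₁ - 1) ^ p = 0 ∧ (G₂ - 1) ^ p = 0 ∧
      (∀ c d, S.h₁ (G₁ c) (G₁ d) = S.h₁ c d) ∧ ∀ y z, S.h₂ (G₂ y) (G₂ z) = S.h₂ y z := by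
  obtain ⟨g₁, g₂, hg⟩ := hT
  obtain ⟨c₁, hc₁⟩ : ∃ c : Fin a → F, c ≠ 0 := ⟨Pi.single ⟨0, ha⟩ 1, by simp⟩
  obtain ⟨y₀, hy₀⟩ : ∃ y : Fin b → F, y ≠ 0 := ⟨Pi.single ⟨0, hb⟩ 1, by simp⟩
  obtain ⟨z₀, hz₀⟩ := (S.u₂.nondegenerate y₀ hy₀).2
  have hpT : ∀ c y, S.T ((g₁ ^ p) c) ((g₂ ^ p) y) = S.T c y := fun c y => by
    rw [← Over.pow_T hg p, hp]; rfl
  have hctr : ∀ c, S.h₂ ((g₂ ^ p) y₀) z₀ • (g₁ ^ p) c = S.h₂ y₀ z₀ • c := fun c => by
    rw [← S.ctr_T, hpT, S.ctr_T]
  have hne : S.h₂ ((g₂ ^ p) y₀) z₀ ≠ 0 := fun h0 => by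
    have := hctr c₁
    rw [h0, zero_smul, eq_comm, smul_eq_zero] at this
    exact this.elim hz₀ hc₁
  obtain ⟨α, hαdef⟩ : ∃ α, α = (S.h₂ ((g₂ ^ p) y₀) z₀)⁻¹ * S.h₂ y₀ z₀ := ⟨_, rfl⟩
  have hα0 : α ≠ 0 := by rw [hαdef]; exact mul_ne_zero (inv_ne_zero hne) hz₀
  have h1 : g₁ ^ p = α • 1 := LinearMap.ext fun c => by
    rw [LinearMap.smul_apply, Module.End.one_apply, hαdef, mul_smul, ← hctr, smul_smul, inv_mul_cancel₀ hne,
      one_smul]
  have h2 : α • g₂ ^ p = 1 := LinearMap.ext fun y => by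
    by_contra hd
    have h3 := hpT c₁ y
    rw [h1, LinearMap.smul_apply, Module.End.one_apply, map_smul, LinearMap.smul_apply, ← map_smul] at h3
    refine hc₁ (S.T_eq_zero (sub_ne_zero.2 hd) ?_)
    rw [map_sub, sub_eq_zero]
    exact h3
  obtain ⟨r, hr⟩ : ∃ r : F, r ^ p = α := Finite.injective_iff_surjective.1 (frobenius_inj F p) α
  have hr0 : r ≠ 0 := by
    rintro rfl
    rw [zero_pow (Fact.out : p.Prime).ne_zero] at hr
    exact hα0 hr.symm
  obtain ⟨G₁, hG₁⟩ : ∃ G : Module.End F (Fin a → F), G = r⁻¹ • g₁ := ⟨_, rfl⟩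
  obtain ⟨G₂, hG₂⟩ : ∃ G : Module.End F (Fin b → F), G = r • g₂ := ⟨_, rfl⟩
  have hG : ∀ c y, g (S.T c y) = S.T (G₁ c) (G₂ y) := fun c y => by
    rw [hg, hG₁, hG₂]
    simp [smul_smul, hr0]
  have e1 : G₁ ^ p = 1 := by rw [hG₁, smul_pow, h1, smul_smul, inv_pow, hr, inv_mul_cancel₀ hα0, one_smul]
  have e2 : G₂ ^ p = 1 := by rw [hG₂, smul_pow, hr, h2]
  have hnz : Nonempty (Fin a) := ⟨⟨0, ha⟩⟩
  have hnz' : Nonempty (Fin b) := ⟨⟨0, hb⟩⟩
  have : CharP (Module.End F (Fin a → F)) p :=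
    charP_of_injective_algebraMap (FaithfulSMul.algebraMap_injective F _) p
  have : CharP (Module.End F (Fin b → F)) p :=
    charP_of_injective_algebraMap (FaithfulSMul.algebraMap_injective F _) p
  have n1 : (G₁ - 1) ^ p = 0 := by rw [sub_pow_char_of_commute p (Commute.one_right G₁), e1, one_pow, sub_self]
  have n2 : (G₂ - 1) ^ p = 0 := by rw [sub_pow_char_of_commute p (Commute.one_right G₂), e2, one_pow, sub_self]
  have hprod : ∀ c d y z, S.h₁ (G₁ c) (G₁ d) * S.h₂ (G₂ y) (G₂ z) = S.h₁ c d * S.h₂ y z := fun c d y z => by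
    rw [← S.form, ← hG, ← hG, hiso, S.form]
  obtain ⟨d₁, hd₁⟩ := (S.u₁.nondegenerate c₁ hc₁).2
  obtain ⟨μ, hμdef⟩ : ∃ μ, μ = S.h₂ y₀ z₀ / S.h₂ (G₂ y₀) (G₂ z₀) := ⟨_, rfl⟩
  have hne2 : S.h₂ (G₂ y₀) (G₂ z₀) ≠ 0 := fun h0 => by
    have := hprod c₁ d₁ y₀ z₀
    rw [h0, mul_zero, eq_comm, mul_eq_zero] at this
    exact this.elim hd₁ hz₀
  have hsim : ∀ c d, S.h₁ (G₁ c) (G₁ d) = μ * S.h₁ c d := fun c d => by
    rw [hμdef, div_mul_eq_mul_div, eq_div_iff hne2, hprod c d y₀ z₀, mul_comm]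
  have hpow : ∀ (j : ℕ) c d, S.h₁ ((G₁ ^ j) c) ((G₁ ^ j) d) = μ ^ j * S.h₁ c d := fun j => by
    induction j with
    | zero => intro c d; simp
    | succ j ih =>
      intro c d
      rw [pow_succ, Module.End.mul_apply, Module.End.mul_apply, ih, hsim, pow_succ]
      ring
  have hμ : μ = 1 := by
    have h3 := hpow p c₁ d₁
    rw [e1, Module.End.one_apply, Module.End.one_apply] at h3
    refine frobenius_inj F p ?_
    rw [frobenius_def, frobenius_def, one_pow]
    exact mul_right_cancel₀ hd₁ (by rw [one_mul]; exact h3.symm)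
  refine ⟨G₁, G₂, hG, n1, n2, fun c d => by rw [hsim, hμ, one_mul], fun y z => ?_⟩
  have h3 := hprod c₁ d₁ y z
  rw [hsim, hμ, one_mul] at h3
  exact mul_left_cancel₀ hd₁ h3

/-- One step of growth from an element fixing part of a line pointwise. -/
theorem grow (ha : 2 ≤ a) (hab : a < b) (hb : 5 ≤ b) (O : S.Over H) {k : (ι → F) ≃ₗ[F] (ι → F)} (hk : k ∈ H)
    (hkT : ¬ S.IsT k) {w : Fin b → F} (hw0 : w ≠ 0) (hw : S.h₂ w w = 0) {K : Submodule F (Fin a → F)}
    (hK : K ≠ ⊤) (hfix : ∀ c ∈ K, k (S.T c w) = S.T c w) : S.HasStable H ∨ S.Bigger H (finrank F K) := by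
  classical
  obtain ⟨ε, hε0, hε⟩ := exists_trace_zero S.uf.ne_refl S.uf.involutive
  have hfix' : ∀ c ∈ K, k.symm (S.T c w) = S.T c w := fun c hc =>
    k.injective (by rw [k.apply_symm_apply, hfix c hc])
  obtain ⟨ψ, hψdef⟩ : ∃ ψ : Module.End F (Fin a → F), ψ = S.ctr w ∘ₗ k.symm.toLinearMap ∘ₗ S.T.flip w :=
    ⟨_, rfl⟩
  obtain ⟨ψs, hψsdef⟩ : ∃ ψs : Module.End F (Fin a → F), ψs = S.ctr w ∘ₗ k.toLinearMap ∘ₗ S.T.flip w :=
    ⟨_, rfl⟩
  have hψ : ∀ c, S.ctr w (k.symm (S.T c w)) = ψ c := fun c => by rw [hψdef]; rfl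
  have hψs : ∀ c, S.ctr w (k (S.T c w)) = ψs c := fun c => by rw [hψsdef]; rfl
  have hadj : S.Adj ψ ψs := fun c d => by
    rw [← hψ, ← hψs, ← S.f_T, O.symm_eq hk, S.uf.herm, S.f_T, ← S.u₁.herm]
  have hK0 : ∀ c ∈ K, ψ c = 0 := fun c hc => by rw [← hψ, hfix' c hc, S.ctr_T, hw, zero_smul]
  have hKs : ∀ c ∈ K, ψs c = 0 := fun c hc => by rw [← hψs, hfix c hc, S.ctr_T, hw, zero_smul]
  by_cases hgain : ∃ c, c ∉ K ∧ ψ c = 0
  · obtain ⟨c₀, hc₀, h₀⟩ := hgain
    exact Or.inr (bigger_of_vec hk hkT hw0 hw hc₀ (fun c hc => by rw [hψ]; exact hK0 c hc)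
      (by rw [hψ]; exact h₀))
  push Not at hgain
  have hker : LinearMap.ker ψ = K := le_antisymm (fun c hc => by
    by_contra hcK
    exact hgain c hcK hc) hK0
  obtain ⟨P, hPdef⟩ : ∃ P, P = hPerp S.u₁ K := ⟨_, rfl⟩
  have hPK : finrank F P + finrank F K = a := by rw [hPdef]; exact finrank_hPerp_add S.u₁ K
  have himP : ∀ c, ψ c ∈ P := fun c => by
    rw [hPdef]
    intro d hd
    rw [hadj, hKs d hd, herm_zero_right S.u₁]
  have himg : LinearMap.range ψ = P := by
    refine Submodule.eq_of_le_of_finrank_le (by rintro _ ⟨c, rfl⟩; exact himP c) ?_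
    have h1 := ψ.finrank_range_add_finrank_ker
    rw [hker, Module.finrank_fin_fun] at h1
    omega
  by_cases hdeg : ∃ d, d ∈ K ∧ d ∈ P ∧ d ≠ 0
  · obtain ⟨d, hdK, hdP, hd0⟩ := hdeg
    rw [← himg] at hdP
    obtain ⟨c₀, hc₀⟩ := hdP
    by_cases hl : S.Line k w
    · exact Or.inl (hasStable_of_line (by omega) O hk hkT hw0 hw hl)
    obtain ⟨k', hk', hkx⟩ := O.conj_root hk hw hε
    have hinv : ∀ X, k'.symm X = X - ε • k (S.T (S.ctr w (k.symm X)) w) := fun X => k'.injective (by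
      rw [k'.apply_symm_apply, map_sub, map_smul, hkx, hkx, k.symm_apply_apply, S.ctr_T, hw, zero_smul]
      simp)
    have hψ' : ∀ c, S.ctr w (k'.symm (S.T c w)) = -(ε • ψs (ψ c)) := fun c => by
      rw [hinv, map_sub, map_smul, hψ, hψs, S.ctr_T, hw, zero_smul, zero_sub]
    refine Or.inr (bigger_of_vec hk' (conj_not_isT (by omega) hab hε0 hw0 hkx hl) hw0 hw (c₀ := c₀)
      (fun hc => hd0 (by rw [← hc₀, hK0 c₀ hc])) (fun c hc => by rw [hψ', hK0 c hc]; simp)
      (by rw [hψ', hc₀, hKs d hdK, smul_zero, neg_zero]))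
  push Not at hdeg
  have hKP : ∀ x ∈ P, (∀ p ∈ P, S.h₁ x p = 0) → x = 0 := by
    intro x hx hperp
    by_contra hx0
    obtain ⟨y, hy⟩ := (S.u₁.nondegenerate x hx0).2
    have htop : K ⊔ P = ⊤ := by
      refine Submodule.eq_top_of_finrank_eq ?_
      have h1 := Submodule.finrank_sup_add_finrank_inf_eq K P
      have h2 : K ⊓ P = ⊥ := (Submodule.eq_bot_iff _).2 fun z hz => hdeg z hz.1 hz.2
      rw [h2, finrank_bot] at h1
      rw [Module.finrank_fin_fun]
      omega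
    obtain ⟨y₁, hy₁, y₂, hy₂, rfl⟩ := Submodule.mem_sup.1 (htop.ge (Submodule.mem_top (x := y)))
    rw [hPdef] at hx
    rw [herm_add_right S.u₁, hx y₁ hy₁, hperp y₂ hy₂, add_zero] at hy
    exact hy rfl
  have hψsP : ∀ x ∈ P, ψs x = 0 → x = 0 := fun x hx h0 => hKP x hx fun p hp => by
    rw [← himg] at hp
    obtain ⟨c, rfl⟩ := hp
    rw [S.u₁.herm, hadj, h0, herm_zero_right S.u₁, map_zero]
  -- the parameters
  obtain ⟨v, hwv, hv⟩ := exists_partner S.u₂ hw0 hw
  obtain ⟨N, hNdef⟩ : ∃ N, N = LinearMap.ker (LinearMap.pi fun i => hermFun S.u₂ (![w, v] i)) := ⟨_, rfl⟩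
  have hNdim : b ≤ finrank F N + 2 := by
    rw [hNdef]; simpa using finrank_ker_ge S.u₂ ![w, v]
  have hNw : ∀ y ∈ N, S.h₂ y w = 0 := fun y hy => by rw [hNdef] at hy; exact congrFun hy 0
  have hNv : ∀ y ∈ N, S.h₂ y v = 0 := fun y hy => by rw [hNdef] at hy; exact congrFun hy 1
  let B := Module.finBasis F N
  obtain ⟨θ, hθ⟩ : ∃ θ : F, σ θ ≠ θ := by
    by_contra hc
    push Not at hc
    exact S.uf.ne_refl (RingEquiv.ext hc)
  let F₀ : Subfield F :=
    { carrier := {x | σ x = x}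
      mul_mem' := fun {x y} hx hy => by simp only [Set.mem_setOf_eq] at *; rw [map_mul, hx, hy]
      one_mem' := map_one σ
      add_mem' := fun {x y} hx hy => by simp only [Set.mem_setOf_eq] at *; rw [map_add, hx, hy]
      zero_mem' := map_zero σ
      neg_mem' := fun {x} hx => by simp only [Set.mem_setOf_eq] at *; rw [map_neg, hx]
      inv_mem' := fun x hx => by simp only [Set.mem_setOf_eq] at *; rw [map_inv₀, hx] }
  let κ := (Fin (finrank F N) × Fin 2) ⊕ Unit
  let z : κ → (Fin b → F) := Sum.elim (fun i => (![1, θ] i.2) • ((B i.1 : N) : Fin b → F)) fun _ => 0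
  let e₀ : κ → F := Sum.elim (fun _ => 0) fun _ => ε
  have hzN : ∀ i, z i ∈ N := fun i => by
    cases i with
    | inl i => exact N.smul_mem _ (B i.1).2
    | inr u => exact N.zero_mem
  let xt : (κ → F₀) → (Fin b → F) := fun t => ∑ i, (t i : F) • z i
  let νt : (κ → F₀) → F := fun t => ∑ i, (t i : F) * e₀ i
  have hxN : ∀ t, xt t ∈ N := fun t => N.sum_mem fun i _ => N.smul_mem _ (hzN i)
  have hνt : ∀ t, νt t + σ (νt t) = 0 := fun t => by
    rw [map_sum, ← Finset.sum_add_distrib]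
    refine Finset.sum_eq_zero fun i _ => ?_
    rw [map_mul, (t i).2]
    cases i with
    | inl i => simp [e₀]
    | inr u => simp only [e₀, Sum.elim_inr]; linear_combination (t (Sum.inr u) : F) * hε
  -- the hermitian forms
  let G : (Fin b → F) → F → (Fin a → F) → (Fin a → F) → F := fun x ν p p' =>
    f (k (S.T (ψ p) x)) (S.T p' w) + ν * S.h₁ (ψ p) (ψ p') - f (k.symm (S.T p w)) (S.T (ψ p') x)
  have hGskew : ∀ x ν p p', ν + σ ν = 0 → σ (G x ν p p') = -G x ν p' p := fun x ν p p' hν => by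
    have e1 : σ (f (k (S.T (ψ p) x)) (S.T p' w)) = f (k.symm (S.T p' w)) (S.T (ψ p) x) := by
      rw [← S.uf.herm, O.symm_eq hk]
    have e2 : σ (f (k.symm (S.T p w)) (S.T (ψ p') x)) = f (k (S.T (ψ p') x)) (S.T p w) := by
      rw [O.symm_eq hk, ← S.uf.herm]
    simp only [G, map_sub, map_add, map_mul, e1, e2, ← S.u₁.herm]
    linear_combination S.h₁ (ψ p') (ψ p) * hν
  let Φ : (Fin b → F) → F → Module.End F (Fin a → F) := fun x ν =>
    S.ctr w ∘ₗ k.toLinearMap ∘ₗ S.T.flip x ∘ₗ ψ + ν • (ψs * ψ) -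
      ψs ∘ₗ S.ctr x ∘ₗ k.symm.toLinearMap ∘ₗ S.T.flip w
  have hΦG : ∀ x ν p p', S.h₁ (Φ x ν p) p' = G x ν p p' := fun x ν p p' => by
    simp only [Φ, G, LinearMap.sub_apply, LinearMap.add_apply, LinearMap.comp_apply, LinearEquiv.coe_coe,
      LinearMap.flip_apply, LinearMap.smul_apply, Module.End.mul_apply, herm_sub_left S.u₁, S.u₁.add_left,
      S.u₁.smul_left, ← S.f_T, Adj.symm S hadj (ψ p) p', Adj.symm S hadj (S.ctr x (k.symm (S.T p w))) p']
  obtain ⟨r, hr⟩ : ∃ r, r = finrank F P := ⟨_, rfl⟩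
  let Bp : Basis (Fin r) F P := (Module.finBasis F P).reindex (finCongr hr.symm)
  let pb : Fin r → Fin a → F := fun i => ((Bp i : P) : Fin a → F)
  let Mc : κ → Matrix (Fin r) (Fin r) F := fun i => Matrix.of fun p p' => ε * G (z i) (e₀ i) (pb p) (pb p')
  have hGlin : ∀ (t : κ → F₀) p p', G (xt t) (νt t) p p' = ∑ i, (t i : F) * G (z i) (e₀ i) p p' := by
    intro t p p'
    have e1 : f (k (S.T (ψ p) (xt t))) (S.T p' w) = ∑ i, (t i : F) * f (k (S.T (ψ p) (z i))) (S.T p' w) := by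
      have := map_sum (hermFun S.uf (S.T p' w) ∘ₗ k.toLinearMap ∘ₗ S.T (ψ p)) (fun i => (t i : F) • z i)
        Finset.univ
      simpa only [LinearMap.comp_apply, LinearEquiv.coe_coe, hermFun_apply, map_smul, smul_eq_mul] using this
    have e2 : f (k.symm (S.T p w)) (S.T (ψ p') (xt t)) =
        ∑ i, (t i : F) * f (k.symm (S.T p w)) (S.T (ψ p') (z i)) := by
      rw [S.uf.herm]
      have := map_sum (hermFun S.uf (k.symm (S.T p w)) ∘ₗ S.T (ψ p')) (fun i => (t i : F) • z i)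
        Finset.univ
      simp only [LinearMap.comp_apply, hermFun_apply, map_smul, smul_eq_mul] at this
      rw [show S.T (ψ p') (xt t) = S.T (ψ p') (∑ i, (t i : F) • z i) from rfl, this, map_sum]
      refine Finset.sum_congr rfl fun i _ => ?_
      rw [map_mul, (t i).2, ← S.uf.herm]
    simp only [G] at e1 e2 ⊢
    rw [e1, e2, Finset.sum_mul, ← Finset.sum_add_distrib, ← Finset.sum_sub_distrib]
    exact Finset.sum_congr rfl fun i _ => by ring
  let MP : Matrix (Fin r) (Fin r) (MvPolynomial κ F) :=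
    Matrix.of fun p p' => ∑ i, MvPolynomial.C (Mc i p p') * MvPolynomial.X i
  let QP : MvPolynomial κ F :=
    ∑ i, ∑ j, MvPolynomial.C (S.h₂ (z i) (z j)) * (MvPolynomial.X i * MvPolynomial.X j)
  have hQe : ∀ t : κ → F₀, MvPolynomial.eval (fun i => (t i : F)) QP = S.h₂ (xt t) (xt t) := by
    intro t
    have e1 : ∀ y, S.h₂ (xt t) y = ∑ i, (t i : F) * S.h₂ (z i) y := fun y => by
      have := map_sum (hermFun S.u₂ y) (fun i => (t i : F) • z i) Finset.univ
      simpa only [hermFun_apply, S.u₂.smul_left] using this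
    rw [e1]
    simp only [QP, map_sum, map_mul, MvPolynomial.eval_C, MvPolynomial.eval_X]
    refine Finset.sum_congr rfl fun i _ => ?_
    rw [S.u₂.herm (z i), e1, map_sum, Finset.mul_sum]
    refine Finset.sum_congr rfl fun j _ => ?_
    rw [map_mul, (t j).2, ← S.u₂.herm]
    ring
  let Mt : (κ → F₀) → Matrix (Fin r) (Fin r) F := fun t =>
    Matrix.of fun p p' => ε * G (xt t) (νt t) (pb p) (pb p')
  have hDe : ∀ t : κ → F₀, MvPolynomial.eval (fun i => (t i : F)) MP.det = (Mt t).det := by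
    intro t
    rw [RingHom.map_det]
    congr 1
    ext p p'
    simp only [RingHom.mapMatrix_apply, Matrix.map_apply, MP, Mt, Matrix.of_apply, map_sum, map_mul,
      MvPolynomial.eval_C, MvPolynomial.eval_X, Mc, hGlin, Finset.mul_sum]
    exact Finset.sum_congr rfl fun i _ => by ring
  have hrpos : 0 < r := by
    have h1 : finrank F K < a := by
      have := Submodule.finrank_lt hK
      rwa [Module.finrank_fin_fun] at this
    omega
  obtain ⟨t, ht0, hD, hQ⟩ := exists_zero F₀ MP.det QP (m := r) (n := 2)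
    (totalDegree_det_le MP fun p p' => MvPolynomial.totalDegree_finsetSum_le fun i _ =>
      (MvPolynomial.totalDegree_mul _ _).trans (by simp))
    (MvPolynomial.totalDegree_finsetSum_le fun i _ => MvPolynomial.totalDegree_finsetSum_le fun j _ =>
      (MvPolynomial.totalDegree_mul _ _).trans (by
        rw [MvPolynomial.totalDegree_C, zero_add]
        exact (MvPolynomial.totalDegree_mul _ _).trans (by simp)))
    (by simp only [κ, Fintype.card_sum, Fintype.card_prod, Fintype.card_fin, Fintype.card_unit]; omega)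
    (fun t => by
      show σ _ = _
      rw [hDe, RingEquiv.map_det, ← Matrix.det_transpose (Mt t)]
      congr 1
      ext p p'
      simp only [RingEquiv.mapMatrix_apply, Matrix.map_apply, Mt, Matrix.transpose_apply, Matrix.of_apply, map_mul,
        hGskew _ _ _ _ (hνt t)]
      linear_combination (-G (xt t) (νt t) (pb p') (pb p)) * hε)
    (fun t => by show σ _ = _; rw [hQe, self_fixed S.u₂])
    (by
      rw [RingHom.map_det]
      have : Nonempty (Fin r) := ⟨⟨0, hrpos⟩⟩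
      refine Matrix.det_eq_zero_of_row_eq_zero ⟨0, hrpos⟩ fun p' => ?_
      simp [MP])
    (by simp [QP])
  rw [hDe] at hD
  rw [hQe] at hQ
  obtain ⟨vc, hvc0, hvc⟩ := Matrix.exists_vecMul_eq_zero_iff.2 hD
  obtain ⟨x, hxdef⟩ : ∃ x, x = xt t := ⟨_, rfl⟩
  obtain ⟨ν, hνdef⟩ : ∃ ν, ν = νt t := ⟨_, rfl⟩
  have hν : ν + σ ν = 0 := by rw [hνdef]; exact hνt t
  obtain ⟨c, hcdef⟩ : ∃ c : P, c = ∑ i, vc i • Bp i := ⟨_, rfl⟩
  have hc0 : (c : Fin a → F) ≠ 0 := fun h0 => hvc0 (funext fun i =>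
    Fintype.linearIndependent_iff.1 Bp.linearIndependent vc (by rw [← hcdef]; exact Subtype.ext h0) i)
  have hcΦ : Φ x ν c = 0 := by
    have hperpK : ∀ d ∈ K, S.h₁ (Φ x ν c) d = 0 := fun d hd => by
      have h1 : Φ x ν d = 0 := by
        simp only [Φ, LinearMap.sub_apply, LinearMap.add_apply, LinearMap.comp_apply, LinearEquiv.coe_coe,
          LinearMap.flip_apply, LinearMap.smul_apply, Module.End.mul_apply, hK0 d hd, hfix' d hd, S.ctr_T]
        rw [hxdef, S.u₂.herm, hNw _ (hxN t)]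
        simp
      have h2 := hGskew x ν d c hν
      rw [← hΦG, ← hΦG, h1, herm_zero_left S.u₁, map_zero, eq_comm, neg_eq_zero] at h2
      exact h2
    refine hKP _ (hPdef.ge hperpK) fun p hp => ?_
    have hlin : ∀ j, S.h₁ (Φ x ν c) (pb j) = 0 := fun j => by
      have h1 := congrFun hvc j
      simp only [Matrix.vecMul, dotProduct, Mt, Matrix.of_apply, Pi.zero_apply] at h1
      have h2 := map_sum (hermFun S.u₁ (pb j) ∘ₗ Φ x ν) (fun i => vc i • pb i) Finset.univ
      simp only [LinearMap.comp_apply, hermFun_apply, map_smul, smul_eq_mul, hΦG] at h2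
      rw [hcdef, Submodule.coe_sum, hΦG]
      simp only [Submodule.coe_smul]
      rw [show (∑ i, vc i • ((Bp i : P) : Fin a → F)) = ∑ i, vc i • pb i from rfl, h2]
      refine (mul_eq_zero.1 ?_).resolve_left hε0
      rw [Finset.mul_sum, ← h1, ← hxdef, ← hνdef]
      exact Finset.sum_congr rfl fun i _ => by ring
    have h3 : (⟨p, hp⟩ : P) = ∑ i, Bp.repr ⟨p, hp⟩ i • Bp i := (Bp.sum_repr _).symm
    rw [show p = ((⟨p, hp⟩ : P) : Fin a → F) from rfl, h3, Submodule.coe_sum]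
    rw [show S.h₁ (Φ x ν c) (∑ i, ((Bp.repr ⟨p, hp⟩ i • Bp i : P) : Fin a → F)) =
      ∑ i, S.h₁ (Φ x ν c) ((Bp.repr ⟨p, hp⟩ i • Bp i : P) : Fin a → F) from
        map_sum (AddMonoidHom.mk' (S.h₁ (Φ x ν c)) (herm_add_right S.u₁ _)) _ _]
    exact Finset.sum_eq_zero fun i _ => by
      rw [Submodule.coe_smul, herm_smul_right S.u₁, hlin i, mul_zero]
  have hcK : (c : Fin a → F) ∉ K := fun h => hc0 (hdeg _ h c.2)
  have hx0 : x ≠ 0 := by
    intro hx
    by_cases hν0 : ν = 0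
    · refine ht0 (funext fun i => ?_)
      have hx' : ∑ i, ((t (Sum.inl (i, 0)) : F) + θ * (t (Sum.inl (i, 1)) : F)) • (B i : N) = 0 := by
        refine Subtype.ext ?_
        rw [Submodule.coe_zero, ← hx, hxdef, Submodule.coe_sum]
        simp only [xt, Submodule.coe_smul]
        rw [Fintype.sum_sum_type, Fintype.sum_prod_type]
        simp only [z, Sum.elim_inl, Sum.elim_inr, smul_zero, Finset.sum_const_zero, add_zero, Fin.sum_univ_two,
          Matrix.cons_val_zero, Matrix.cons_val_one, one_smul, smul_smul, mul_one, add_smul]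
        exact Finset.sum_congr rfl fun i _ => by rw [mul_comm θ]
      have hB := Fintype.linearIndependent_iff.1 B.linearIndependent _ hx'
      cases i with
      | inr u =>
        rw [hνdef] at hν0
        simp only [νt] at hν0
        rw [Fintype.sum_sum_type] at hν0
        simp only [e₀, Sum.elim_inl, Sum.elim_inr, mul_zero, Finset.sum_const_zero, zero_add,
          Finset.univ_unique, Finset.sum_singleton, mul_eq_zero] at hν0
        exact Subtype.ext (by simpa using hν0.resolve_right hε0)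
      | inl i =>
        obtain ⟨i, j⟩ := i
        have h1 := hB i
        have h11 : (t (Sum.inl (i, 1)) : F) = 0 := by
          by_contra h2
          refine hθ ?_
          have h3 : θ = -(t (Sum.inl (i, 0)) : F) / (t (Sum.inl (i, 1)) : F) := by
            field_simp
            linear_combination h1
          rw [h3, map_div₀, map_neg, (t _).2, (t _).2]
        fin_cases j
        · refine Subtype.ext ?_
          show (t (Sum.inl (i, 0)) : F) = 0
          simpa [h11] using h1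
        · exact Subtype.ext h11
    · have h1 := hcΦ
      simp only [Φ, hx, LinearMap.sub_apply, LinearMap.add_apply, LinearMap.comp_apply, LinearEquiv.coe_coe,
        LinearMap.flip_apply, map_zero, LinearMap.zero_apply, LinearMap.smul_apply, Module.End.mul_apply,
        zero_add] at h1
      have h0 : ∀ X, S.ctr (0 : Fin b → F) X = 0 := fun X => by
        have := S.ctr_smul 0 0 X
        simpa using this
      rw [h0, map_zero, sub_zero, smul_eq_zero] at h1
      exact hcK (hker ▸ (LinearMap.mem_ker.2 (hψsP _ (himP _) (h1.resolve_left hν0))))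
  have hxw : S.h₂ x w = 0 := by rw [hxdef]; exact hNw _ (hxN t)
  have hwx : S.h₂ w x = 0 := herm_eq_zero_comm S.u₂ hxw
  have hxv : S.h₂ x v = 0 := by rw [hxdef]; exact hNv _ (hxN t)
  have hxx : S.h₂ x x = 0 := by rw [hxdef]; exact hQ
  obtain ⟨C, hCdef⟩ : ∃ C, C = S.el x w 1 + S.el w w (ν • 1) - S.el w x 1 := ⟨_, rfl⟩
  have hC : ∀ X, C X = S.T (S.ctr w X) x + ν • S.T (S.ctr w X) w - S.T (S.ctr x X) w := fun X => by
    rw [hCdef]; simp [el_apply]
  have hE := O.eichler hw hxw (t := ν) (by rw [hxx, neg_zero]; exact hν)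
  rw [← hCdef] at hE
  have hCC : ∀ X, C (C X) = 0 := fun X => by
    simp [hC, S.ctr_T, hw, hwx, hxw, hxx]
  obtain ⟨e', he', he'x⟩ := hE.conj hk
  obtain ⟨D, hDdef⟩ : ∃ D, D = k.toLinearMap ∘ₗ C ∘ₗ k.symm.toLinearMap := ⟨_, rfl⟩
  have hDx : ∀ X, e' X = X + D X := fun X => by rw [hDdef]; exact he'x X
  have hDD : ∀ X, D (D X) = 0 := fun X => by simp [hDdef, hCC]
  have hinv : ∀ X, e'.symm X = X - D X := fun X => e'.injective (by
    rw [e'.apply_symm_apply, map_sub, hDx, hDx, hDD]; abel)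
  have hψ' : ∀ c, S.ctr w (e'.symm (S.T c w)) = -Φ x ν c := fun c => by
    simp only [hinv, hDdef, Φ, LinearMap.comp_apply, LinearEquiv.coe_coe, hC, map_sub, map_add, map_smul, S.ctr_T,
      hw, zero_smul, zero_sub, hψ, LinearMap.sub_apply, LinearMap.add_apply, LinearMap.flip_apply,
      LinearMap.smul_apply, Module.End.mul_apply, hψs]
  have hKΦ : ∀ d ∈ K, Φ x ν d = 0 := fun d hd => by
    simp only [Φ, LinearMap.sub_apply, LinearMap.add_apply, LinearMap.comp_apply, LinearEquiv.coe_coe,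
      LinearMap.flip_apply, LinearMap.smul_apply, Module.End.mul_apply, hK0 d hd, hfix' d hd, S.ctr_T, hwx]
    simp
  by_cases heT : S.IsT e'
  swap
  · exact Or.inr (bigger_of_vec he' heT hw0 hw hcK (fun d hd => by rw [hψ', hKΦ d hd, neg_zero])
      (by rw [hψ', hcΦ, neg_zero]))
  -- a conjugate product map
  obtain ⟨p, hp⟩ := CharP.exists F
  have : Fact p.Prime := ⟨CharP.char_is_prime F p⟩
  have hpow : ∀ j : ℕ, ∀ X, (e' ^ j) X = X + (j : F) • D X := by
    intro j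
    induction j with
    | zero => intro X; simp
    | succ j ih =>
      intro X
      rw [pow_succ, LinearEquiv.mul_apply, hDx, ih, map_add, hDD, Nat.cast_succ, add_smul, one_smul, add_zero]
      abel
  have hp1 : e' ^ p = 1 := LinearEquiv.ext fun X => by
    rw [hpow, CharP.cast_eq_zero, zero_smul, add_zero]; rfl
  obtain ⟨G₁, G₂, hG, hn₁, hn₂, hi₁, hi₂⟩ := unip_factors (by omega) (by omega) (O.iso e' he') heT hp1
  have hne1 : ¬ (G₁ = 1 ∧ G₂ = 1) := by
    rintro ⟨rfl, rfl⟩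
    obtain ⟨c₁, hc₁⟩ : ∃ c : Fin a → F, c ≠ 0 := ⟨Pi.single ⟨0, by omega⟩ 1, by simp⟩
    have hvw : S.h₂ v w = 1 := by rw [S.u₂.herm, hwv, map_one]
    obtain ⟨d, hd⟩ : ∃ d, e'.symm (k (S.T c₁ v)) = d := ⟨_, rfl⟩
    have h1 : e' = 1 := LinearEquiv.ext fun X => by
      have := S.ext_T (g := e'.toLinearMap) (g' := LinearMap.id) fun c y => by simpa using hG c y
      exact LinearMap.congr_fun this X
    have h2 := hDx (k (S.T c₁ v))
    rw [h1] at h2
    rw [LinearEquiv.coe_one, id_eq, left_eq_add, hDdef, LinearMap.comp_apply, LinearMap.comp_apply,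
      LinearEquiv.coe_coe, LinearEquiv.coe_coe, LinearEquiv.symm_apply_apply, LinearEquiv.map_eq_zero_iff] at h2
    simp only [hC, S.ctr_T, hvw, one_smul, show S.h₂ v x = 0 from herm_eq_zero_comm S.u₂ hxv, zero_smul, map_zero,
      LinearMap.zero_apply, sub_zero, ← map_smul, ← map_add] at h2
    have h3 : x + ν • w = 0 := by
      by_contra h3
      exact hc₁ (S.T_eq_zero h3 h2)
    have h4 := congrArg (fun y => S.h₂ y v) h3
    simp only [S.u₂.add_left, S.u₂.smul_left, hxv, hwv, zero_add, mul_one, herm_zero_left S.u₂] at h4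
    exact hx0 (by rwa [h4, zero_smul, add_zero] at h3)
  obtain ⟨w'', hw''0, hw''fix, hw''⟩ : ∃ y, y ≠ 0 ∧ G₂ y = y ∧ S.h₂ y y = 0 := by
    by_cases h2 : G₂ = 1
    · exact ⟨w, hw0, by rw [h2]; rfl, hw⟩
    · obtain ⟨y, hy0, hy, hyy, -⟩ := exists_fixed_radical S.u₂ hi₂ hn₂ h2
      exact ⟨y, hy0, hy, hyy⟩
  obtain ⟨KK, hKKdef⟩ : ∃ KK, KK = LinearMap.ker (G₁ - 1) := ⟨_, rfl⟩
  have hKKmem : ∀ u, u ∈ KK ↔ G₁ u = u := fun u => by
    rw [hKKdef, LinearMap.mem_ker, LinearMap.sub_apply, Module.End.one_apply, sub_eq_zero]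
  have hKle : K ≤ KK := by
    intro d hd
    by_cases hd0 : d = 0
    · rw [hd0]; exact zero_mem _
    rw [hKKmem]
    have hDd : D (S.T d w) = 0 := by
      simp [hDdef, hC, hfix' d hd, S.ctr_T, hw, hwx]
    have h1 : S.T (G₁ d) (G₂ w) = S.T d w := by rw [← hG, hDx, hDd, add_zero]
    have h2 := congrArg (S.ctr v) h1
    rw [S.ctr_T, S.ctr_T, hwv, one_smul] at h2
    obtain ⟨α, hα⟩ : ∃ α, α = (S.h₂ (G₂ w) v)⁻¹ := ⟨_, rfl⟩
    have hne : S.h₂ (G₂ w) v ≠ 0 := fun h0 => hd0 (by rw [← h2, h0, zero_smul])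
    have h3 : G₁ d = α • d := by
      conv_rhs => rw [← h2]
      rw [hα, smul_smul, inv_mul_cancel₀ hne, one_smul]
    have h4 : ∀ j : ℕ, ((G₁ - 1) ^ j) d = (α - 1) ^ j • d := by
      intro j
      induction j with
      | zero => simp
      | succ j ih =>
        rw [pow_succ', Module.End.mul_apply, ih, map_smul, LinearMap.sub_apply, Module.End.one_apply, h3,
          pow_succ, mul_smul, sub_smul, one_smul]
    have h5 := h4 p
    rw [hn₁, LinearMap.zero_apply, eq_comm, smul_eq_zero] at h5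
    rw [h3, sub_eq_zero.1 (eq_zero_of_pow_eq_zero (h5.resolve_right hd0)), one_smul]
  have hlt : finrank F K < finrank F KK := by
    by_cases h1 : G₁ = 1
    · refine Submodule.finrank_lt_finrank_of_lt (lt_of_le_of_ne hKle fun h => hK ?_)
      rw [h, hKKdef, h1, sub_self, LinearMap.ker_zero]
    obtain ⟨y, hy0, hy, -, hperp⟩ := exists_fixed_radical S.u₁ hi₁ hn₁ h1
    refine Submodule.finrank_lt_finrank_of_lt (lt_of_le_of_ne hKle fun h => ?_)
    exact hy0 (hdeg y (by rw [h, hKKmem]; exact hy) (by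
      rw [hPdef]; exact fun d hd => hperp d ((hKKmem d).1 (hKle hd))))
  have hzero : ∀ u ∈ KK, S.ctr w (k.symm (S.T u w'')) = 0 := fun u hu => by
    have h1 := hG u w''
    rw [(hKKmem u).1 hu, hw''fix, hDx, add_eq_left] at h1
    simp only [hDdef, LinearMap.comp_apply, LinearEquiv.coe_coe, LinearEquiv.map_eq_zero_iff] at h1
    have hli : LinearIndependent F ![x, w] := (LinearIndependent.pair_iff' hx0).2 fun s hs => by
      have h2 : S.h₂ (s • x) v = 1 := by rw [hs, hwv]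
      rw [S.u₂.smul_left, hxv, mul_zero] at h2
      exact zero_ne_one h2
    obtain ⟨zc, hzc⟩ := exists_herm_values S.u₂ hli ![1, 0]
    have e1 : S.h₂ x zc = 1 := by
      rw [S.u₂.herm, show S.h₂ zc x = 1 by simpa using hzc 0, map_one]
    have e2 : S.h₂ w zc = 0 := herm_eq_zero_comm S.u₂ (by simpa using hzc 1)
    have h2 := congrArg (S.ctr zc) h1
    simpa [hC, S.ctr_T, e1, e2] using h2
  obtain ⟨Bm, hBm, s, hs, hBw⟩ := exists_move S.u₂ hw''0 hw0 hw'' hw
  obtain ⟨g, hg, hgx⟩ := O.right Bm hBm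
  refine Or.inr ⟨g * k, H.mul_mem hg hk, not_isT_left hgx hkT, w, hw0, hw, KK, hlt, fun u hu => ?_⟩
  have h1 : (g * k).symm (S.T u w) = s⁻¹ • k.symm (S.T u w'') := (g * k).injective (by
    rw [LinearEquiv.apply_symm_apply, map_smul, LinearEquiv.mul_apply, k.apply_symm_apply, hgx, hBw, map_smul,
      smul_smul, inv_mul_cancel₀ hs, one_smul])
  rw [h1, map_smul, hzero u hu, smul_zero]

/-- An element outside the product maps stabilises a singular line. -/
theorem hasStable (ha : 2 ≤ a) (hab : a < b) (hb : 5 ≤ b) (O : S.Over H) (hne : ∃ e ∈ H, ¬ S.IsT e) :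
    S.HasStable H := by
  classical
  by_contra hno
  suffices key : ∀ j, ∀ e ∈ H, ¬ S.IsT e → ∀ w, w ≠ 0 → S.h₂ w w = 0 → ∀ K : Submodule F (Fin a → F),
      (∀ c ∈ K, S.ctr w (e.symm (S.T c w)) = 0) → a ≤ finrank F K + j → False by
    obtain ⟨e, he, heT⟩ := hne
    obtain ⟨w, hw0, hw⟩ := exists_iso S.u₂ (by omega)
    exact key a e he heT w hw0 hw ⊥ (by simp) (by simp)
  intro j
  induction j using Nat.strong_induction_on with
  | _ j ih =>
    intro e he heT w hw0 hw K hK hle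
    by_cases hl : S.Line e w
    · exact hno (hasStable_of_line (by omega) O he heT hw0 hw hl)
    obtain ⟨ε, hε0, hε⟩ := exists_trace_zero S.uf.ne_refl S.uf.involutive
    obtain ⟨k, hk, hkx⟩ := O.conj_root he hw hε
    have hkT := conj_not_isT (by omega) hab hε0 hw0 hkx hl
    have hfix : ∀ c ∈ K, k (S.T c w) = S.T c w := fun c hc => by
      rw [hkx, hK c hc]; simp
    by_cases htop : K = ⊤
    · exact hno ⟨k, hk, hkT, w, hw0, hw, 1, Function.injective_id, fun c => by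
        rw [hfix c (htop ▸ Submodule.mem_top)]; rfl⟩
    rcases grow ha hab hb O hk hkT hw0 hw htop hfix with h | ⟨e', he', heT', w', hw'0, hw', K', hlt, hK'⟩
    · exact hno h
    have h1 := Submodule.finrank_le K'
    rw [Module.finrank_fin_fun] at h1
    exact ih (j - 1) (by omega) e' he' heT' w' hw'0 hw' K' hK' (by omega)

end TU

end Cfsg.Agent.UnitTensor
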