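import Cfsg.Agent.Lib.UnitTensor.Basic

/-!
Conjugated root elements, and elements stabilising a line of tensors.
-/

set_option autoImplicit false

namespace Cfsg.Agent.UnitTensor

open scoped Matrix MatrixGroups
open Module Submodule
open Cfsg.Agent Cfsg.Agent.TransvMax Cfsg.Agent.ExtFieldMax

variable {F : Type*} [Field F] {ι : Type} [Fintype ι] [DecidableEq ι] {a b : ℕ}
  {σ : F ≃+* F} {f : (ι → F) → (ι → F) → F} {S : TU σ f a b}
  {H : Subgroup ((ι → F) ≃ₗ[F] (ι → F))}

namespace TU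

/-- The conjugated root element. -/
theorem Over.conj_root (O : S.Over H) {e : (ι → F) ≃ₗ[F] (ι → F)} (he : e ∈ H) {y : Fin b → F}
    (hy : S.h₂ y y = 0) {t : F} (ht : t + σ t = 0) :
    ∃ k ∈ H, ∀ X, k X = X + t • e (S.T (S.ctr y (e.symm X)) y) := by
  obtain ⟨k, hk, hkx⟩ := (O.root hy ht).conj he
  exact ⟨k, hk, fun X => by rw [hkx]; simp [el_apply]⟩

theorem conj_not_isT (ha : 0 < a) (hab : a < b) {e k : (ι → F) ≃ₗ[F] (ι → F)} {y : Fin b → F} {t : F}
    (ht : t ≠ 0) (hy : y ≠ 0) (hk : ∀ X, k X = X + t • e (S.T (S.ctr y (e.symm X)) y))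
    (hnl : ¬ S.Line e y) : ¬ S.IsT k := by
  rintro ⟨g₁, g₂, hg⟩
  have hmem : ∀ X, k X - X ∈ LinearMap.range (e.toLinearMap ∘ₗ S.T.flip y) := fun X =>
    ⟨t • S.ctr y (e.symm X), by rw [hk, add_sub_cancel_left, map_smul]; rfl⟩
  have hrange : finrank F (LinearMap.range (e.toLinearMap ∘ₗ S.T.flip y)) ≤ a :=
    (LinearMap.finrank_range_le _).trans_eq (Module.finrank_fin_fun F)
  by_cases hs : ∃ c, ∀ s : F, g₁ c ≠ s • c
  · obtain ⟨c, hc⟩ := hs
    let M : (Fin b → F) →ₗ[F] (ι → F) := k.toLinearMap ∘ₗ S.T c - S.T c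
    have hinj : Function.Injective M := by
      rw [injective_iff_map_eq_zero]
      intro z hz
      have hz' : S.T (g₁ c) (g₂ z) = S.T c z := by rw [← hg]; exact sub_eq_zero.1 hz
      by_contra hz0
      obtain ⟨w, hne⟩ := (S.u₂.nondegenerate z hz0).2
      have h1 := congrArg (S.ctr w) hz'
      rw [S.ctr_T, S.ctr_T] at h1
      by_cases h0 : S.h₂ (g₂ z) w = 0
      · rw [h0, zero_smul, eq_comm, smul_eq_zero] at h1
        exact hc 0 (by rw [h1.resolve_left hne, map_zero, zero_smul])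
      · exact hc ((S.h₂ (g₂ z) w)⁻¹ * S.h₂ z w) (by
          rw [mul_smul, ← h1, smul_smul, inv_mul_cancel₀ h0, one_smul])
    have hle : LinearMap.range M ≤ LinearMap.range (e.toLinearMap ∘ₗ S.T.flip y) := by
      rintro _ ⟨z, rfl⟩
      exact hmem _
    have := Submodule.finrank_mono hle
    rw [LinearMap.finrank_range_of_inj hinj, Module.finrank_fin_fun] at this
    omega
  push Not at hs
  obtain ⟨α, hα⟩ := LinearMap.exists_eq_smul_id_of_forall_notLinearIndependent (f := g₁) fun v hli => by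
    obtain ⟨s, hs'⟩ := hs v
    exact (LinearIndependent.pair_iff' (hli.ne_zero 0)).1 hli s hs'.symm
  have hres : ∀ c z, k (S.T c z) - S.T c z = S.T c (α • g₂ z - z) := by
    intro c z
    rw [hg, hα]
    simp
  by_cases hR : ∀ z, α • g₂ z - z = 0
  · have hk1 : k.toLinearMap = LinearMap.id := S.ext_T fun c z => by
      have := hres c z
      rw [hR, map_zero, sub_eq_zero] at this
      exact this
    obtain ⟨v, hv⟩ := (S.u₂.nondegenerate y hy).1
    have h1 := hk (e (S.T (Pi.single ⟨0, ha⟩ 1) v))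
    rw [show k (e (S.T (Pi.single ⟨0, ha⟩ 1) v)) = e (S.T (Pi.single ⟨0, ha⟩ 1) v) from
      LinearMap.congr_fun hk1 _, e.symm_apply_apply, S.ctr_T, left_eq_add, smul_eq_zero,
      LinearEquiv.map_eq_zero_iff] at h1
    have h2 := S.T_eq_zero hy (h1.resolve_left ht)
    rw [smul_eq_zero] at h2
    exact hv (h2.resolve_right (by simp))
  push Not at hR
  obtain ⟨z, hz⟩ := hR
  set w := α • g₂ z - z with hw
  let M : (Fin a → F) →ₗ[F] (ι → F) := S.T.flip w
  have hinj : Function.Injective M := (injective_iff_map_eq_zero M).2 fun c hc => S.T_eq_zero hz hc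
  have hle : LinearMap.range M ≤ LinearMap.range (e.toLinearMap ∘ₗ S.T.flip y) := by
    rintro _ ⟨c, rfl⟩
    show S.T c w ∈ _
    rw [hw, ← hres]
    exact hmem _
  have heq := Submodule.eq_of_le_of_finrank_le hle (by
    rw [LinearMap.finrank_range_of_inj hinj, Module.finrank_fin_fun]; exact hrange)
  refine hnl ⟨w, fun c => ?_⟩
  have : e (S.T c y) ∈ LinearMap.range (e.toLinearMap ∘ₗ S.T.flip y) := ⟨c, rfl⟩
  rw [← heq] at this
  obtain ⟨d, hd⟩ := this
  exact ⟨d, hd.symm⟩

/-- An element outside the product maps stabilising a singular line of tensors. -/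
def HasStable (S : TU σ f a b) (H : Subgroup ((ι → F) ≃ₗ[F] (ι → F))) : Prop :=
  ∃ h ∈ H, ¬ S.IsT h ∧ ∃ w, w ≠ 0 ∧ S.h₂ w w = 0 ∧
    ∃ A : Module.End F (Fin a → F), Function.Injective A ∧ ∀ c, h (S.T c w) = S.T (A c) w

theorem hasStable_of_line (ha : 0 < a) (O : S.Over H) {e : (ι → F) ≃ₗ[F] (ι → F)} (he : e ∈ H)
    (heT : ¬ S.IsT e) {w : Fin b → F} (hw0 : w ≠ 0) (hw : S.h₂ w w = 0) (hl : S.Line e w) :
    S.HasStable H := by
  obtain ⟨w', hline⟩ := hl
  choose d hd using hline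
  have hw'0 : w' ≠ 0 := by
    rintro rfl
    have h0 := hd (Pi.single ⟨0, ha⟩ 1)
    rw [map_zero, LinearEquiv.map_eq_zero_iff] at h0
    have := S.T_eq_zero hw0 h0
    simp at this
  have hdinj : Function.Injective d := fun c c' hcc => by
    have h0 : S.T (c - c') w = 0 := e.injective (by
      rw [map_sub, LinearMap.sub_apply, map_sub, hd, hd, hcc, sub_self, map_zero])
    exact sub_eq_zero.1 (S.T_eq_zero hw0 h0)
  have hw' : S.h₂ w' w' = 0 := by
    by_contra hne
    obtain ⟨c, hc⟩ : ∃ c : Fin a → F, c ≠ 0 := ⟨Pi.single ⟨0, ha⟩ 1, by simp⟩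
    obtain ⟨c', hc'⟩ := (S.u₁.nondegenerate c hc).2
    have h1 := O.iso e he (S.T c w) (S.T c' w)
    rw [hd, hd, S.form, S.form, hw, mul_zero, mul_eq_zero] at h1
    let D : (Fin a → F) →ₗ[F] (Fin a → F) :=
      { toFun := d
        map_add' := fun x y => by
          have h0 : S.T (d (x + y) - (d x + d y)) w' = 0 := by
            rw [map_sub, LinearMap.sub_apply, map_add, LinearMap.add_apply, ← hd, ← hd, ← hd, map_add,
              LinearMap.add_apply, map_add, sub_self]
          exact sub_eq_zero.1 (S.T_eq_zero hw'0 h0)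
        map_smul' := fun s x => by
          have h0 : S.T (d (s • x) - s • d x) w' = 0 := by
            rw [map_sub, LinearMap.sub_apply, map_smul, LinearMap.smul_apply, ← hd, ← hd, map_smul,
              LinearMap.smul_apply, map_smul, sub_self]
          exact sub_eq_zero.1 (S.T_eq_zero hw'0 h0) }
    have hsurj : Function.Surjective D := LinearMap.surjective_of_injective hdinj
    have h0 : ∀ p q, S.h₁ p q = 0 := fun p q => by
      obtain ⟨x, rfl⟩ := hsurj p
      obtain ⟨y, rfl⟩ := hsurj q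
      have h1 := O.iso e he (S.T x w) (S.T y w)
      rw [hd, hd, S.form, S.form, hw, mul_zero, mul_eq_zero] at h1
      exact h1.resolve_right hne
    exact hc' (h0 _ _)
  obtain ⟨B, hB, s, hs, hBw⟩ := exists_move S.u₂ hw'0 hw0 hw' hw
  obtain ⟨g, hg, hgx⟩ := O.right B hB
  obtain ⟨z, hz⟩ := (S.u₂.nondegenerate w hw0).2
  refine ⟨g * e, H.mul_mem hg he, not_isT_left hgx heT, w, hw0, hw,
    (S.h₂ w z)⁻¹ • (S.ctr z ∘ₗ (g * e : (ι → F) ≃ₗ[F] (ι → F)).toLinearMap ∘ₗ S.T.flip w), ?_, fun c => ?_⟩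
  · intro c c' hcc
    refine hdinj ?_
    simp only [LinearMap.smul_apply, LinearMap.comp_apply, LinearEquiv.coe_coe, LinearMap.flip_apply,
      LinearEquiv.mul_apply, hd, hgx, hBw, map_smul, S.ctr_T, smul_smul] at hcc
    exact smul_right_injective _ (mul_ne_zero (inv_ne_zero hz) (mul_ne_zero hs hz)) hcc
  · simp only [LinearMap.smul_apply, LinearMap.comp_apply, LinearEquiv.coe_coe, LinearMap.flip_apply,
      LinearEquiv.mul_apply, hd, hgx, hBw, map_smul, S.ctr_T, smul_smul]
    congr 1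
    field_simp

end TU

end Cfsg.Agent.UnitTensor
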