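import Cfsg.Agent.Lib.UnitTensor.Spread
import Cfsg.Agent.Lib.TransvMax.TensorEl
import Cfsg.Agent.Lib.TransvMax.TensorForms
import Cfsg.Agent.Lib.TransvMax.UnitaryGen

/-!
The stabiliser of a decomposition into hermitian factors is maximal in the special unitary group.
-/

set_option autoImplicit false

namespace Cfsg.Agent.UnitTensor

open scoped Matrix MatrixGroups Kronecker
open Module Submodule
open Cfsg.Agent Cfsg.Agent.TransvMax Cfsg.Agent.ExtFieldMax

variable {F : Type*} [Field F] [Fintype F]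

theorem exists_fixed_ne {q : ℕ} (hF : Fintype.card F = q ^ 2) (hq : q ≠ 2) {σ : F ≃+* F}
    (hσ : ∀ x, σ x = x ^ q) (hinv : ∀ x, σ (σ x) = x) : ∃ θ : F, σ θ = θ ∧ θ ≠ 0 ∧ θ ≠ 1 := by
  classical
  have h1 : 1 < Fintype.card F := Fintype.one_lt_card
  have hq3 : 3 ≤ q := by
    rcases q with _ | _ | _ | q
    · simp [hF] at h1
    · simp [hF] at h1
    · exact absurd rfl hq
    · omega
  by_contra hall
  push Not at hall
  have hroot : ∀ x : F, x ^ (q + 1) = 0 ∨ x ^ (q + 1) = 1 := by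
    intro x
    by_cases h0 : x ^ (q + 1) = 0
    · exact Or.inl h0
    · refine Or.inr (hall _ ?_ h0)
      rw [pow_succ, map_mul, ← hσ x, hinv, mul_comm]
  have hsub := Polynomial.card_le_degree_of_subset_roots
    (p := (Polynomial.X ^ (q + 1) - Polynomial.C 1 : Polynomial F)) (Z := Finset.univ.erase 0) (fun x hx => by
      rw [Polynomial.mem_roots (Polynomial.X_pow_sub_C_ne_zero (by omega) _)]
      have hx0 : x ≠ 0 := Finset.ne_of_mem_erase hx
      simp [(hroot x).resolve_left (pow_ne_zero _ hx0)])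
  rw [Finset.card_erase_of_mem (Finset.mem_univ _), Finset.card_univ, hF, Polynomial.natDegree_X_pow_sub_C]
    at hsub
  have : q * 3 ≤ q ^ 2 := by rw [pow_two]; exact Nat.mul_le_mul_left _ hq3
  omega

theorem maximal {n q : ℕ} (hF : Fintype.card F = q ^ 2) (hn : 13 ≤ n) {n₁ n₂ : ℕ} (h1 : 2 ≤ n₁) (h12 : n₁ < n₂)
    (hex : ¬ (n₁ = 2 ∧ q = 2)) (e : Fin n ≃ Fin n₁ × Fin n₂) (P : GL (Fin n) F)
    {f₁ : (Fin n₁ → F) → (Fin n₁ → F) → F} {f₂ : (Fin n₂ → F) → (Fin n₂ → F) → F}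
    (hf₁ : Cfsg.Geo.IsUnitaryFormPow q f₁) (hf₂ : Cfsg.Geo.IsUnitaryFormPow q f₂)
    (hT : Cfsg.Geo.IsTensorFormStructure (fun x : F => x ^ q) (Cfsg.hermForm n F q) f₁ f₂ e P) :
    Cfsg.Geo.IsMaximalIn (Cfsg.GU n F q ⊓ Cfsg.Geo.specialLinear (Fin n) F)
      (Cfsg.Geo.tensorProductSubgroup n₁ n₂ e P ⊓ (Cfsg.GU n F q ⊓ Cfsg.Geo.specialLinear (Fin n) F)) := by
  classical
  obtain ⟨σ, hσ, hf⟩ := exists_herm_setting hF n
  have hs : TensorSmall.Sesq (fun x : F => x ^ q) (Cfsg.hermForm n F q) :=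
    ⟨hf.add_left, hf.smul_left, herm_add_right hf, fun k x v => by rw [herm_smul_right hf, hσ]⟩
  have hs' : ∀ {k : ℕ} {g : (Fin k → F) → (Fin k → F) → F}, Cfsg.Geo.IsUnitaryFormPow q g →
      TensorSmall.Sesq (fun x : F => x ^ q) g := fun {k g} h => by
    refine ⟨h.add_left, h.smul_left, fun x y v => ?_, fun l x v => ?_⟩
    · rw [h.herm, h.add_left, ← hσ, map_add, hσ, hσ, ← h.herm, ← h.herm]
    · rw [h.herm, h.smul_left, mul_pow, ← h.herm]
  obtain ⟨c₀, hc₀, hform⟩ := TensorSmall.form_tp e P (fun a b => mul_pow a b q) (hs' hf₁) (hs' hf₂) hT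
  have hu₂ : Cfsg.Geo.IsUnitaryForm σ f₂ :=
    ⟨hf.ne_refl, hf.involutive, hf₂.add_left, hf₂.smul_left, fun v w => by rw [hσ, ← hf₂.herm],
      hf₂.nondegenerate⟩
  obtain ⟨x₁, hx₁⟩ : ∃ x : Fin n₁ → F, x ≠ 0 := ⟨Pi.single ⟨0, by omega⟩ 1, by simp⟩
  obtain ⟨x₂, hx₂⟩ : ∃ x : Fin n₂ → F, x ≠ 0 := ⟨Pi.single ⟨0, by omega⟩ 1, by simp⟩
  obtain ⟨y₁, hy₁⟩ := (hf₁.nondegenerate x₁ hx₁).2
  obtain ⟨y₂, hy₂⟩ := (hf₂.nondegenerate x₂ hx₂).2
  have hc₀σ : σ c₀ = c₀ := by
    have h1 := hf.herm (TensorSmall.tp e P x₁ x₂) (TensorSmall.tp e P y₁ y₂)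
    rw [hform, hform, map_mul, map_mul, hσ (f₁ y₁ x₁), ← hf₁.herm, hσ (f₂ y₂ x₂), ← hf₂.herm] at h1
    exact (mul_right_cancel₀ (mul_ne_zero hy₁ hy₂) h1).symm
  let h₁ : (Fin n₁ → F) → (Fin n₁ → F) → F := fun x y => c₀ * f₁ x y
  have hu₁ : Cfsg.Geo.IsUnitaryForm σ h₁ :=
    ⟨hf.ne_refl, hf.involutive, fun x y v => by simp [h₁, hf₁.add_left, mul_add],
      fun k x v => by simp [h₁, hf₁.smul_left, mul_left_comm],
      fun v w => by simp only [h₁, map_mul, hc₀σ]; rw [hσ, ← hf₁.herm],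
      fun v hv => ⟨(hf₁.nondegenerate v hv).1.imp fun x hx => mul_ne_zero hc₀ hx,
        (hf₁.nondegenerate v hv).2.imp fun x hx => mul_ne_zero hc₀ hx⟩⟩
  let L := TensorEl.coord e P
  have hLT : ∀ c y, L (Matrix.vecMulVec c y) = TensorSmall.tp e P c y := fun c y => by
    rw [TensorEl.coord_apply]; rfl
  let S : TU σ (Cfsg.hermForm n F q) n₁ n₂ :=
    { uf := hf
      T := LinearMap.mk₂ F (fun c y => L (Matrix.vecMulVec c y))
        (fun c d y => by rw [Matrix.add_vecMulVec, map_add])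
        (fun t c y => by rw [Matrix.smul_vecMulVec, map_smul])
        (fun c y z => by rw [Matrix.vecMulVec_add, map_add])
        (fun t c y => by rw [Matrix.vecMulVec_smul, map_smul])
      L := L
      hL := fun c y => rfl
      h₁ := h₁
      h₂ := f₂
      u₁ := hu₁
      u₂ := hu₂
      form := fun c y d z => by
        show Cfsg.hermForm n F q (L (Matrix.vecMulVec c y)) (L (Matrix.vecMulVec d z)) = _
        rw [hLT, hLT, hform]
        simp [h₁, mul_assoc] }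
  have hb : 5 ≤ n₂ := by
    by_contra h
    have hcard : n = n₁ * n₂ := by simpa using Fintype.card_congr e
    have : n₁ * n₂ ≤ 3 * 4 := Nat.mul_le_mul (by omega) (by omega)
    omega
  -- product maps and the stabiliser
  have hmem : ∀ g, S.IsT g → glOf g ∈ Cfsg.Geo.tensorProductSubgroup n₁ n₂ e P := by
    rintro g ⟨g₁, g₂, hg⟩
    have h1' : Function.Injective g₁ := (injective_iff_map_eq_zero g₁).2 fun c hc => S.T_eq_zero hx₂
      ((LinearEquiv.map_eq_zero_iff g).1 (by rw [hg, hc, map_zero, LinearMap.zero_apply]))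
    have h2' : Function.Injective g₂ := (injective_iff_map_eq_zero g₂).2 fun y hy => by
      by_contra hy0
      exact hx₁ (S.T_eq_zero hy0 ((LinearEquiv.map_eq_zero_iff g).1 (by rw [hg, hy, map_zero])))
    have hA : IsUnit (LinearMap.toMatrix' g₁) := Matrix.mulVec_injective_iff_isUnit.1 fun x y hxy => h1' (by
      simpa using hxy)
    have hB : IsUnit (LinearMap.toMatrix' g₂) := Matrix.mulVec_injective_iff_isUnit.1 fun x y hxy => h2' (by
      simpa using hxy)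
    obtain ⟨y, hy, hyx⟩ := TensorEl.exists_mem e P hA.unit hB.unit
    convert hy using 1
    refine gl_ext fun X => ?_
    rw [glOf_mulVec]
    have := S.ext_T (g := g.toLinearMap) (g' := Matrix.mulVecLin (y : Matrix (Fin n) (Fin n) F)) fun c z => by
      show g (S.T c z) = (y : Matrix (Fin n) (Fin n) F) *ᵥ L (Matrix.vecMulVec c z)
      rw [hg, hyx, TensorEl.sandwich_apply, Matrix.mul_vecMulVec, Matrix.vecMulVec_mul, Matrix.vecMul_transpose,
        IsUnit.unit_spec, IsUnit.unit_spec, LinearMap.toMatrix'_mulVec, LinearMap.toMatrix'_mulVec]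
      rfl
    exact LinearMap.congr_fun this X
  have hmem' : ∀ y ∈ Cfsg.Geo.tensorProductSubgroup n₁ n₂ e P, S.IsT (linOf y) := by
    intro y hy
    obtain ⟨A, B, hAB⟩ := TensorEl.exists_of_mem hy
    refine ⟨Matrix.mulVecLin (A : Matrix (Fin n₁) (Fin n₁) F), Matrix.mulVecLin (B : Matrix (Fin n₂) (Fin n₂) F),
      fun c z => ?_⟩
    show (y : Matrix (Fin n) (Fin n) F) *ᵥ L (Matrix.vecMulVec c z) = _
    rw [hAB, TensorEl.sandwich_apply, Matrix.mul_vecMulVec, Matrix.vecMulVec_mul, Matrix.vecMul_transpose]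
    rfl
  refine maximal_in_guSL hf hF (by omega) _ inf_le_right ?_ fun K hK hKG hKne => ?_
  · obtain ⟨u, hu0, hu⟩ := exists_iso hu₁ h1
    obtain ⟨v, huv, -⟩ := exists_partner hu₁ hu0 hu
    obtain ⟨w, hw0, hw⟩ := exists_iso hu₂ (show 2 ≤ n₂ by omega)
    obtain ⟨ws, hwws, hws⟩ := exists_partner hu₂ hw0 hw
    obtain ⟨ε, hε0, hε⟩ := exists_trace_zero hf.ne_refl hf.involutive
    have hX : Cfsg.hermForm n F q (S.T u w) (S.T u w) = 0 := by rw [S.form]; simp [S, hu]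
    refine ⟨utrv hf hX ε, utrv_mem_guSL hf hX hε, fun h => ?_⟩
    obtain ⟨g₁, g₂, hg⟩ := hmem' _ h.1
    have hgx : ∀ c y, S.T (g₁ c) (g₂ y) = S.T c y + (ε * (S.h₁ c u * S.h₂ y w)) • S.T u w := fun c y => by
      rw [← hg, linOf_apply, utrv_mulVec, S.form]
    have hvu : h₁ v u = 1 := by rw [hu₁.herm, huv, map_one]
    have hwsw : f₂ ws w = 1 := by rw [hu₂.herm, hwws, map_one]
    have e1 : ∀ y, S.T (g₁ u) (g₂ y) = S.T u y := fun y => by
      rw [hgx, show S.h₁ u u = 0 from hu, zero_mul, mul_zero, zero_smul, add_zero]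
    have h2 : ∀ y z, S.h₂ (g₂ y) z • g₁ u = S.h₂ y z • u := fun y z => by rw [← S.ctr_T, e1, S.ctr_T]
    obtain ⟨z, hz⟩ := (hu₂.nondegenerate w hw0).2
    have hne : S.h₂ (g₂ w) z ≠ 0 := fun h0 => by
      have := h2 w z
      rw [h0, zero_smul, eq_comm, smul_eq_zero] at this
      exact this.elim hz hu0
    obtain ⟨α, hα⟩ : ∃ α, α = (S.h₂ (g₂ w) z)⁻¹ * S.h₂ w z := ⟨_, rfl⟩
    have hgu : g₁ u = α • u := by rw [hα, mul_smul, ← h2, smul_smul, inv_mul_cancel₀ hne, one_smul]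
    have hg₂ : ∀ y, α • g₂ y = y := fun y => by
      by_contra hd
      refine hu0 (S.T_eq_zero (sub_ne_zero.2 hd) ?_)
      rw [map_sub, sub_eq_zero, ← e1 y, hgu, map_smul, map_smul, LinearMap.smul_apply]
    have hα0 : α ≠ 0 := fun h0 => hw0 (by have := hg₂ w; rwa [h0, zero_smul, eq_comm] at this)
    have hv : ∀ y, S.T (α⁻¹ • g₁ v - v) y = (ε * f₂ y w) • S.T u w := fun y => by
      rw [map_sub, LinearMap.sub_apply, map_smul, LinearMap.smul_apply, ← map_smul, sub_eq_iff_eq_add']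
      have : S.T (g₁ v) (α⁻¹ • y) = S.T (g₁ v) (g₂ y) := by
        congr 1
        conv_lhs => rw [← hg₂ y, smul_smul, inv_mul_cancel₀ hα0, one_smul]
      rw [this, hgx, show S.h₁ v u = 1 from hvu, one_mul]
    have hz0 := hv w
    rw [hw, mul_zero, zero_smul] at hz0
    have h3 := hv ws
    rw [S.T_eq_zero hw0 hz0, map_zero, LinearMap.zero_apply, hwsw, mul_one, eq_comm, smul_eq_zero] at h3
    exact hu0 (S.T_eq_zero hw0 (h3.resolve_left hε0))
  have hfac : ∀ (A : GL (Fin n₁) F) (B : GL (Fin n₂) F), IsSU h₁ A → IsSU f₂ B →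
      ∃ g ∈ K.comap glOf, ∀ c y, g (S.T c y) =
        S.T ((A : Matrix (Fin n₁) (Fin n₁) F) *ᵥ c) ((B : Matrix (Fin n₂) (Fin n₂) F) *ᵥ y) := by
    intro A B hA hB
    obtain ⟨y, hy, hyx⟩ := TensorEl.exists_mem e P A B
    have hyT : ∀ c z, linOf y (S.T c z) =
        S.T ((A : Matrix (Fin n₁) (Fin n₁) F) *ᵥ c) ((B : Matrix (Fin n₂) (Fin n₂) F) *ᵥ z) := fun c z => by
      show (y : Matrix (Fin n) (Fin n) F) *ᵥ L (Matrix.vecMulVec c z) = _
      rw [hyx, TensorEl.sandwich_apply, Matrix.mul_vecMulVec, Matrix.vecMulVec_mul, Matrix.vecMul_transpose]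
      rfl
    have hy' : (y : Matrix (Fin n) (Fin n) F) = (P : Matrix (Fin n) (Fin n) F) *
        Matrix.reindexAlgEquiv F F e.symm ((A : Matrix (Fin n₁) (Fin n₁) F) ⊗ₖ (B : Matrix (Fin n₂) (Fin n₂) F)) *
          ((P⁻¹ : GL (Fin n) F) : Matrix (Fin n) (Fin n) F) := by
      refine Matrix.ext_iff_mulVec.2 fun x => ?_
      obtain ⟨X, rfl⟩ := L.surjective x
      rw [hyx, ← TensorEl.coord_mul_pair]
    have hdet : ∀ {k : ℕ} {g : (Fin k → F) → (Fin k → F) → F} {C : GL (Fin k) F}, IsSU g C →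
        (C : Matrix (Fin k) (Fin k) F).det = 1 := fun {k g C} hC => by
      have := hC.1
      rw [Cfsg.Geo.specialLinear, MonoidHom.mem_ker, Units.ext_iff] at this
      exact this
    refine ⟨linOf y, ?_, hyT⟩
    rw [Subgroup.mem_comap, glOf_linOf]
    refine hK ⟨hy, mem_GU_iff.2 fun x z => ?_, ?_⟩
    · have iso1 : ∀ c d p r, Cfsg.hermForm n F q (linOf y (S.T c d)) (linOf y (S.T p r)) =
          Cfsg.hermForm n F q (S.T c d) (S.T p r) := fun c d p r => by
        rw [hyT, hyT, S.form, S.form]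
        show h₁ _ _ * f₂ _ _ = _
        rw [hA.2, hB.2]
      have iso2 : ∀ c d z, Cfsg.hermForm n F q (linOf y (S.T c d)) (linOf y z) =
          Cfsg.hermForm n F q (S.T c d) z := fun c d z => by
        have := S.ext_T (g := hermFun hf (linOf y (S.T c d)) ∘ₗ (linOf y).toLinearMap)
          (g' := hermFun hf (S.T c d)) fun p r => iso1 p r c d
        have h3 := LinearMap.congr_fun this z
        rw [hf.herm, hf.herm (S.T c d)]
        exact congrArg σ h3
      have := S.ext_T (g := hermFun hf (linOf y z) ∘ₗ (linOf y).toLinearMap) (g' := hermFun hf z)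
        fun p r => iso2 p r z
      have h3 := LinearMap.congr_fun this x
      simpa [hermFun_apply] using h3
    · show y ∈ Cfsg.Geo.specialLinear (Fin n) F
      rw [Cfsg.Geo.specialLinear, MonoidHom.mem_ker, Units.ext_iff]
      show (y : Matrix (Fin n) (Fin n) F).det = 1
      rw [hy', Matrix.det_units_conj, Matrix.det_reindexAlgEquiv, Matrix.det_kronecker, hdet hA, hdet hB, one_pow,
        one_pow, one_mul]
  have O : S.Over (K.comap glOf) := by
    refine ⟨fun g hg x z => ?_, fun A hA => ?_, fun B hB => ?_⟩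
    · have := mem_GU_iff.1 (hKG hg).1 x z
      simpa using this
    · obtain ⟨g, hg, hgx⟩ := hfac A 1 hA IsSU.one
      exact ⟨g, hg, fun c y => by rw [hgx, Units.val_one, Matrix.one_mulVec]⟩
    · obtain ⟨g, hg, hgx⟩ := hfac 1 B IsSU.one hB
      exact ⟨g, hg, fun c y => by rw [hgx, Units.val_one, Matrix.one_mulVec]⟩
  have hne : ∃ x ∈ K.comap glOf, ¬ S.IsT x := by
    obtain ⟨g, hgK, hg⟩ := hKne
    refine ⟨linOf g, by rwa [Subgroup.mem_comap, glOf_linOf], fun h => hg ⟨?_, hKG hgK⟩⟩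
    simpa [glOf_linOf] using hmem _ h
  have hq : n₁ = 2 → ∃ θ : F, σ θ = θ ∧ θ ≠ 0 ∧ θ ≠ 1 := fun h2 =>
    exists_fixed_ne hF (fun e2 => hex ⟨h2, e2⟩) hσ hf.involutive
  have hroot := TU.hasRoot h1 O hq (TU.hasM h1 hb O hq (TU.hasStable h1 h12 hb O hne))
  intro u hu
  obtain ⟨hcu, hmemu⟩ := TU.cen_all h1 hb O hroot hu
  refine ⟨hu, fun t ht => ?_⟩
  obtain ⟨g, hg, hgx⟩ := hmemu t ht
  have : glOf g = utrv hf hu t := gl_ext fun x => by
    rw [glOf_mulVec, utrv_mulVec, hgx, TU.tvop_apply]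
  rw [← this]
  exact hg

end Cfsg.Agent.UnitTensor
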