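import Cfsg.Agent.Lib.UnitTensor.Fix

/-!
From a non-scalar element along a singular line to the transvections of one pure tensor.
-/

set_option autoImplicit false

namespace Cfsg.Agent.UnitTensor

open scoped Matrix MatrixGroups
open Module Submodule
open Cfsg.Agent Cfsg.Agent.TransvMax Cfsg.Agent.ExtFieldMax

variable {F : Type*} [Field F] [Fintype F] {σ : F ≃+* F}

/-- A special isometry scaling a hyperbolic pair. -/
theorem exists_torus {n : ℕ} {h : (Fin n → F) → (Fin n → F) → F} (hh : Cfsg.Geo.IsUnitaryForm σ h)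
    {u v : Fin n → F} (hu : h u u = 0) (hv : h v v = 0) (huv : h u v = 1) {t : F} (ht : σ t = t) (ht0 : t ≠ 0) :
    ∃ A, IsSU h A ∧ (A : Matrix (Fin n) (Fin n) F) *ᵥ u = t • u ∧
      (A : Matrix (Fin n) (Fin n) F) *ᵥ v = t⁻¹ • v := by
  obtain ⟨ε, hε0, hε⟩ := exists_trace_zero hh.ne_refl hh.involutive
  have hvu : h v u = 1 := by rw [hh.herm, huv, map_one]
  have flip : ∀ μ : F, μ ≠ 0 → μ + σ μ = 0 → ∃ A, IsSU h A ∧ (A : Matrix (Fin n) (Fin n) F) *ᵥ u = μ • v ∧
      (A : Matrix (Fin n) (Fin n) F) *ᵥ v = (-μ⁻¹) • u := by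
    intro μ hμ0 hμ
    have hν : -μ⁻¹ + σ (-μ⁻¹) = 0 := by
      rw [map_neg, map_inv₀, show σ μ = -μ by linear_combination hμ, inv_neg, neg_neg, neg_add_cancel]
    refine ⟨utrv hh hv μ * utrv hh hu (-μ⁻¹) * utrv hh hv μ,
      ((isSU_utrv hh hv hμ).mul (isSU_utrv hh hu hν)).mul (isSU_utrv hh hv hμ), ?_, ?_⟩
    all_goals
      simp only [Units.val_mul, ← Matrix.mulVec_mulVec, utrv_mulVec, hh.add_left, hh.smul_left, hu, hv, huv, hvu]
      match_scalars <;> field_simp <;> ring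
  obtain ⟨A₁, h₁, h1u, h1v⟩ := flip ε hε0 hε
  obtain ⟨A₂, h₂, h2u, h2v⟩ := flip (-ε / t) (div_ne_zero (neg_ne_zero.2 hε0) ht0) (by
    rw [map_div₀, map_neg, ht, show σ ε = -ε by linear_combination hε]; ring)
  refine ⟨A₂ * A₁, h₂.mul h₁, ?_, ?_⟩
  · rw [Units.val_mul, ← Matrix.mulVec_mulVec, h1u, Matrix.mulVec_smul, h2v, smul_smul]
    congr 1
    field_simp
  · rw [Units.val_mul, ← Matrix.mulVec_mulVec, h1v, Matrix.mulVec_smul, h2u, smul_smul]
    congr 1
    field_simp

variable {ι : Type} [Fintype ι] [DecidableEq ι] {a b : ℕ}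
  {f : (ι → F) → (ι → F) → F} {S : TU σ f a b} {H : Subgroup ((ι → F) ≃ₗ[F] (ι → F))}

namespace TU

/-- `c ↦ h₁(c, u) u` -/
noncomputable def r1 (S : TU σ f a b) (u : Fin a → F) : Module.End F (Fin a → F) :=
  (hermFun S.u₁ u).smulRight u

omit [Fintype F] in
theorem r1_apply (u c : Fin a → F) : S.r1 u c = S.h₁ c u • u := rfl

/-- The skew pair of two vectors. -/
noncomputable def pr (S : TU σ f a b) (p q : Fin a → F) : Module.End F (Fin a → F) :=
  (hermFun S.u₁ q).smulRight p - (hermFun S.u₁ p).smulRight q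

omit [Fintype F] in
theorem pr_apply (p q c : Fin a → F) : S.pr p q c = S.h₁ c q • p - S.h₁ c p • q := rfl

/-- All transvections of one pure tensor. -/
def HasRoot (S : TU σ f a b) (H : Subgroup ((ι → F) ≃ₗ[F] (ι → F))) : Prop :=
  ∃ (u : Fin a → F) (w : Fin b → F), u ≠ 0 ∧ S.h₁ u u = 0 ∧ w ≠ 0 ∧ S.h₂ w w = 0 ∧
    ∀ t : F, t + σ t = 0 → InH H (S.el w w (t • S.r1 u))

theorem hasRoot (ha : 2 ≤ a) (O : S.Over H) (hq : a = 2 → ∃ θ : F, σ θ = θ ∧ θ ≠ 0 ∧ θ ≠ 1)
    (hm : S.HasM H) : S.HasRoot H := by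
  classical
  obtain ⟨w, hw0, hw, M, hM, hin⟩ := hm
  obtain ⟨v₂, hwv₂, hv₂⟩ := exists_partner S.u₂ hw0 hw
  have hv₂w : S.h₂ v₂ w = 1 := by rw [S.u₂.herm, hwv₂, map_one]
  let MM : Module.End F (Fin a → F) → Prop := fun N => InH H (S.el w w N)
  have hadd : ∀ N N', MM N → MM N' → MM (N + N') := fun N N' h1 h2 =>
    (h1.add h2 fun X => by simp [el_el, hw]).congr fun X => by simp [el_apply]
  have hneg : ∀ N, MM N → MM (-N) := fun N h1 =>
    (h1.neg fun X => by simp [el_el, hw]).congr fun X => by simp [el_apply]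
  have hsub : ∀ N N', MM N → MM N' → MM (N - N') := fun N N' h1 h2 => by
    rw [sub_eq_add_neg]; exact hadd _ _ h1 (hneg _ h2)
  have hzero : MM 0 := InH.zero.congr fun X => by simp [el_apply]
  have hconj : ∀ A : GL (Fin a) F, IsSU S.h₁ A → ∀ N N' : Module.End F (Fin a → F), MM N →
      (∀ c, N' ((A : Matrix (Fin a) (Fin a) F) *ᵥ c) = (A : Matrix (Fin a) (Fin a) F) *ᵥ N c) → MM N' := by
    intro A hA N N' hN hNN
    obtain ⟨g, hg, hgx⟩ := O.left A hA
    refine (hN.conj hg).congr fun X => ?_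
    obtain ⟨Y, rfl⟩ := g.surjective X
    have := S.ext_T (g := g.toLinearMap ∘ₗ S.el w w N) (g' := S.el w w N' ∘ₗ g.toLinearMap) fun c y => by
      simp [el_apply, S.ctr_T, hgx, hNN, Matrix.mulVec_smul]
    show g (S.el w w N (g.symm (g Y))) = _
    rw [g.symm_apply_apply]
    exact LinearMap.congr_fun this Y
  have hsk : ∀ c d, S.h₁ (M c) d + S.h₁ c (M d) = 0 := by
    intro c d
    obtain ⟨g, hg, hgx⟩ := id hin
    have h1 := O.iso g hg (S.T c v₂) (S.T d v₂)
    simp only [hgx, el_apply, S.ctr_T, hv₂w, one_smul, S.uf.add_left, herm_add_right S.uf, S.form, hv₂, hwv₂, hw,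
      mul_zero, mul_one, zero_add, add_zero] at h1
    linear_combination h1
  obtain ⟨u, hu, hMu⟩ : ∃ u, S.h₁ u u = 0 ∧ ∀ s : F, M u ≠ s • u := by
    by_contra hc
    push Not at hc
    obtain ⟨s, hs⟩ := scalar_of_iso_eigen S.u₁ ha M hc
    exact hM s hs
  have hu0 : u ≠ 0 := fun e => hMu 0 (by rw [e]; simp)
  obtain ⟨η, hη⟩ : ∃ η, η = S.h₁ (M u) u := ⟨_, rfl⟩
  obtain ⟨τ, hτ⟩ := exists_trace_eq S.uf.ne_refl S.uf.involutive (a := 1) (map_one σ)
  have hσe : ∀ e : F, e + σ e = 0 → σ e = -e := fun e he => by linear_combination he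
  have hση : σ η = -η := by
    have := hsk u u
    rw [S.u₁.herm u (M u), ← hη] at this
    linear_combination this
  obtain ⟨P, hPdef⟩ : ∃ P : F → (Fin a → F), ∀ e, P e = (-e) • M u + (-(e * e * η) * τ) • u := ⟨_, fun e => rfl⟩
  have hPmem : ∀ e, e + σ e = 0 → MM (S.pr (P e) u) := by
    intro e he
    have h1 : MM (LinearMap.id.comp M + e • (S.r1 u * M) - e • (M * S.r1 u) - (e * e) • (S.r1 u * M * S.r1 u)) := by
      refine hconj _ (isSU_utrv S.u₁ hu he) M _ hin fun c => ?_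
      simp [utrv_mulVec, r1_apply, hu, S.u₁.add_left, S.u₁.smul_left]
      module
    have h2 := hsub _ _ h1 hin
    refine h2.congr fun X => ?_
    simp only [el_apply]
    refine congrArg (fun z => S.T z w) ?_
    generalize S.ctr w X = c
    have e1 : S.h₁ (M c) u = -S.h₁ c (M u) := by linear_combination hsk c u
    simp only [LinearMap.add_apply, LinearMap.sub_apply, LinearMap.comp_apply, LinearMap.id_apply, Module.End.mul_apply,
      LinearMap.smul_apply, r1_apply, map_smul, S.u₁.smul_left, pr_apply, hPdef, herm_add_right S.u₁,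
      herm_smul_right S.u₁, e1, ← hη, map_neg, map_mul, hσe e he, hση]
    match_scalars <;> try ring
    linear_combination (e * e * η * S.h₁ c u) * hτ
  -- one multiple of the root, and all multiples
  by_cases h3 : a = 2
  swap
  · obtain ⟨x₀, hx₀u, hx₀⟩ : ∃ x, S.h₁ x u = 0 ∧ ∀ s : F, x ≠ s • u := by
      by_contra hc
      push Not at hc
      have hle : LinearMap.ker (hermFun S.u₁ u) ≤ F ∙ u := fun y hy => by
        obtain ⟨s, hs⟩ := hc y hy
        exact Submodule.mem_span_singleton.2 ⟨s, hs.symm⟩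
      have h1 := Submodule.finrank_mono hle
      rw [finrank_span_singleton hu0] at h1
      have h2 := (hermFun S.u₁ u).finrank_range_add_finrank_ker
      have h4 := Submodule.finrank_le (LinearMap.range (hermFun S.u₁ u))
      rw [Module.finrank_self] at h4
      rw [Module.finrank_fin_fun] at h2
      omega
    have shift : ∀ p x, MM (S.pr p u) → S.h₁ x u = 0 → ∃ t : F,
        MM (S.pr (S.h₁ p u • x + (t * S.h₁ p u - S.h₁ p x) • u) u) := by
      intro p x hp hx
      obtain ⟨t, ht⟩ := exists_trace_eq S.uf.ne_refl S.uf.involutive (a := -S.h₁ x x)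
        (by rw [map_neg, self_fixed S.u₁])
      obtain ⟨A, hA, hAdef⟩ : ∃ A, IsSU S.h₁ A ∧ A = hSiegel S.u₁ hu hx t :=
        ⟨_, isSU_hSiegel S.u₁ hu hx ht, rfl⟩
      have hAu : (A : Matrix (Fin a) (Fin a) F) *ᵥ u = u := by
        rw [hAdef, hSiegel_mulVec, hu, herm_eq_zero_comm S.u₁ hx]; simp
      have h1 : MM (S.pr ((A : Matrix (Fin a) (Fin a) F) *ᵥ p) u) := by
        refine hconj A hA _ _ hp fun c => ?_
        have e : S.h₁ ((A : Matrix (Fin a) (Fin a) F) *ᵥ c) u = S.h₁ c u := by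
          have := hA.2 c u
          rwa [hAu] at this
        rw [pr_apply, pr_apply, Matrix.mulVec_sub, Matrix.mulVec_smul, Matrix.mulVec_smul, hA.2, e, hAu]
      refine ⟨t, (hsub _ _ h1 hp).congr fun X => ?_⟩
      simp only [el_apply]
      refine congrArg (fun z => S.T z w) ?_
      simp only [LinearMap.sub_apply, pr_apply, hAdef, hSiegel_mulVec, herm_add_right S.u₁]
      module
    obtain ⟨ε, hε0, hε⟩ := exists_trace_zero S.uf.ne_refl S.uf.involutive
    obtain ⟨p₂, hp₂, hp₂u, hp₂s⟩ : ∃ p, MM (S.pr p u) ∧ S.h₁ p u = 0 ∧ ∀ s : F, p ≠ s • u := by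
      by_cases hpu : S.h₁ (P ε) u = 0
      · refine ⟨P ε, hPmem ε hε, hpu, fun s hs => hMu (-ε⁻¹ * (s + ε * ε * η * τ)) ?_⟩
        rw [hPdef] at hs
        have h1 : (-ε) • M u = (s + ε * ε * η * τ) • u := by
          linear_combination (norm := module) hs
        rw [mul_smul, ← h1, smul_smul, neg_mul_neg, inv_mul_cancel₀ hε0, one_smul]
      · obtain ⟨t, ht⟩ := shift _ x₀ (hPmem ε hε) hx₀u
        refine ⟨_, ht, by simp [S.u₁.add_left, S.u₁.smul_left, hx₀u, hu], fun s hs => ?_⟩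
        refine hx₀ ((S.h₁ (P ε) u)⁻¹ * (s - (t * S.h₁ (P ε) u - S.h₁ (P ε) x₀))) ?_
        rw [mul_smul, sub_smul, ← hs, add_sub_cancel_right, smul_smul, inv_mul_cancel₀ hpu, one_smul]
    refine ⟨u, w, hu0, hu, hw0, hw, fun lam hlam => ?_⟩
    have hli : LinearIndependent F ![u, p₂] :=
      (LinearIndependent.pair_iff' hu0).2 fun s hs => hp₂s s hs.symm
    obtain ⟨x, hx⟩ := exists_herm_values S.u₁ hli ![0, σ (-(lam * τ))]
    have hxu : S.h₁ x u = 0 := by simpa using hx 0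
    have hxp : S.h₁ p₂ x = -(lam * τ) := by
      have h1 : S.h₁ x p₂ = σ (-(lam * τ)) := by simpa using hx 1
      rw [S.u₁.herm, h1, S.u₁.involutive]
    obtain ⟨t, ht⟩ := shift p₂ x hp₂ hxu
    refine ht.congr fun X => ?_
    simp only [el_apply]
    refine congrArg (fun z => S.T z w) ?_
    simp only [pr_apply, hp₂u, hxp, zero_smul, zero_add, mul_zero, zero_sub, neg_neg, herm_smul_right S.u₁,
      map_mul, hσe lam hlam, LinearMap.smul_apply, r1_apply]
    match_scalars
    linear_combination (lam * S.h₁ (S.ctr w X) u) * hτ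
  obtain ⟨θ, hθ, hθ0, hθ1⟩ := hq h3
  obtain ⟨ε, hε0, hε⟩ := exists_trace_zero S.uf.ne_refl S.uf.involutive
  obtain ⟨hne, hne0, hθε⟩ := exists_two_trace_zero hθ0 hθ1 hθ hε0 hε
  obtain ⟨v, huv, hv⟩ := exists_partner S.u₁ hu0 hu
  have hvu : S.h₁ v u = 1 := by rw [S.u₁.herm, huv, map_one]
  have hdec : M u = S.h₁ (M u) v • u + η • v := by
    refine sub_eq_zero.1 ?_
    by_contra hd
    obtain ⟨y, hy⟩ := (S.u₁.nondegenerate _ hd).2
    have hli : LinearIndependent F ![u, v] := (LinearIndependent.pair_iff' hu0).2 fun s hs => by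
      rw [← hs, herm_smul_right S.u₁, hu, mul_zero] at huv
      exact zero_ne_one huv
    obtain ⟨α, hα⟩ : ∃ α : Fin 2 → F, ∑ i, α i • ![u, v] i = y :=
      (Submodule.mem_span_range_iff_exists_fun F).1
        ((hli.span_eq_top_of_card_eq_finrank (by simp [h3])).ge (Submodule.mem_top (x := y)))
    refine hy ?_
    rw [← hα, Fin.sum_univ_two]
    simp [herm_sub_left S.u₁, S.u₁.add_left, S.u₁.smul_left, herm_add_right S.u₁, herm_smul_right S.u₁, hu, hv,
      huv, hvu, ← hη]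
    ring
  have hη0 : η ≠ 0 := fun h0 => hMu (S.h₁ (M u) v) (by rw [h0, zero_smul, add_zero] at hdec; exact hdec)
  obtain ⟨α, hαdef⟩ : ∃ α : F → F, ∀ e, α e = -e * S.h₁ (M u) v + -(e * e * η) * τ := ⟨_, fun e => rfl⟩
  have hPv : ∀ e, P e = α e • u + (-e * η) • v := fun e => by
    rw [hPdef, hαdef]
    conv_lhs => rw [hdec]
    module
  have htorus : ∀ t : F, σ t = t → t ≠ 0 → ∀ p₁ p₂ : F, MM (S.pr (p₁ • u + p₂ • v) u) →
      MM (S.pr ((t * t * p₁) • u + p₂ • v) u) := by
    intro t ht ht0 p₁ p₂ hp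
    obtain ⟨A, hA, hAu, hAv⟩ := exists_torus S.u₁ hu hv huv ht ht0
    refine hconj A hA _ _ hp fun c => ?_
    have e1 : S.h₁ ((A : Matrix (Fin a) (Fin a) F) *ᵥ c) u = t⁻¹ * S.h₁ c u := by
      have := hA.2 c u
      rw [hAu, herm_smul_right S.u₁, ht] at this
      rw [← this, inv_mul_cancel_left₀ ht0]
    have e2 : S.h₁ ((A : Matrix (Fin a) (Fin a) F) *ᵥ c) v = t * S.h₁ c v := by
      have := hA.2 c v
      rw [hAv, herm_smul_right S.u₁, map_inv₀, ht] at this
      rw [← this, mul_inv_cancel_left₀ ht0]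
    simp only [pr_apply, herm_add_right S.u₁, herm_smul_right S.u₁, e1, e2, map_mul, ht, Matrix.mulVec_sub,
      Matrix.mulVec_smul, Matrix.mulVec_add, hAu, hAv]
    match_scalars <;> field_simp
  have hroot : ∀ t : F, MM (t • S.r1 u) → ∀ k : F, σ k = k → MM ((k * k * t) • S.r1 u) := by
    intro t ht k hk
    by_cases hk0 : k = 0
    · rw [hk0, zero_mul, zero_mul, zero_smul]; exact hzero
    obtain ⟨A, hA, hAu, -⟩ := exists_torus S.u₁ hu hv huv hk hk0
    refine hconj A hA _ _ ht fun c => ?_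
    have e1 : S.h₁ ((A : Matrix (Fin a) (Fin a) F) *ᵥ c) u = k⁻¹ * S.h₁ c u := by
      have := hA.2 c u
      rw [hAu, herm_smul_right S.u₁, hk] at this
      rw [← this, inv_mul_cancel_left₀ hk0]
    simp only [LinearMap.smul_apply, r1_apply, e1, Matrix.mulVec_smul, hAu]
    match_scalars
    field_simp
  obtain ⟨μ, hμ0, hμ, hμin⟩ : ∃ μ : F, μ ≠ 0 ∧ μ + σ μ = 0 ∧ MM (μ • S.r1 u) := by
    have hσ2 : σ (2 : F) = 2 := map_ofNat σ 2
    by_cases h2 : (2 : F) = 0
    · obtain ⟨e, he, hR⟩ : ∃ e, e + σ e = 0 ∧ α e - σ (α e) ≠ 0 := by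
        by_contra hall
        push Not at hall
        have key : ∀ e : F, e ≠ 0 → e + σ e = 0 → e * η = -(S.h₁ (M u) v + σ (S.h₁ (M u) v)) := by
          intro e he0 he
          have h1 := hall e he
          simp only [hαdef, map_add, map_mul, map_neg, hσe e he, hση] at h1
          exact mul_left_cancel₀ he0 (by linear_combination -h1 - (e * e * η) * hτ)
        exact hne (mul_right_cancel₀ hη0 (by rw [key _ hne0 hθε, key _ hε0 hε]))
      have h1 := hPmem e he
      rw [hPv] at h1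
      have h2' := hsub _ _ (htorus θ hθ hθ0 _ _ h1) h1
      refine ⟨(θ * θ - 1) * (α e - σ (α e)), mul_ne_zero (fun h0 => hθ1 ?_) hR, ?_, h2'.congr fun X => ?_⟩
      · have : (θ - 1) * (θ - 1) = 0 := by linear_combination h0 - (θ - 1) * h2
        exact sub_eq_zero.1 (mul_self_eq_zero.1 this)
      · simp only [map_mul, map_sub, map_one, hθ, S.uf.involutive]
        ring
      · simp only [el_apply]
        refine congrArg (fun z => S.T z w) ?_
        simp only [LinearMap.sub_apply, pr_apply, herm_add_right S.u₁, herm_smul_right S.u₁, map_mul, hθ,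
          LinearMap.smul_apply, r1_apply]
        module
    · have h2ε : 2 * ε + σ (2 * ε) = 0 := by rw [map_mul, hσ2]; linear_combination 2 * hε
      refine ⟨-(2 * (ε * ε) * η), neg_ne_zero.2 (mul_ne_zero (mul_ne_zero h2 (mul_ne_zero hε0 hε0)) hη0), ?_,
        (hsub _ _ (hsub _ _ (hPmem _ h2ε) (hPmem ε hε)) (hPmem ε hε)).congr fun X => ?_⟩
      · simp only [map_neg, map_mul, hσ2, hσe ε hε, hση]
        ring
      · simp only [el_apply]
        refine congrArg (fun z => S.T z w) ?_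
        simp only [LinearMap.sub_apply, pr_apply, hPdef, herm_add_right S.u₁, herm_smul_right S.u₁, map_mul,
          map_neg, hσ2, hσe ε hε, hση, LinearMap.smul_apply, r1_apply]
        match_scalars <;> try ring_nf
        linear_combination (-2 * (ε * ε) * η * S.h₁ (S.ctr w X) u) * hτ
  refine ⟨u, w, hu0, hu, hw0, hw, fun t ht => ?_⟩
  obtain ⟨ρ, hρdef⟩ : ∃ ρ, ρ = t / μ := ⟨_, rfl⟩
  have hρ : σ ρ = ρ := by rw [hρdef, map_div₀, hσe t ht, hσe μ hμ, neg_div_neg_eq]
  have hρt : ρ * μ = t := by rw [hρdef, div_mul_cancel₀ _ hμ0]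
  by_cases h2 : (2 : F) = 0
  · obtain ⟨p, hp⟩ := CharP.exists F
    have : Fact p.Prime := ⟨CharP.char_is_prime F p⟩
    have : CharP F 2 := CharTwo.of_one_ne_zero_of_two_eq_zero one_ne_zero h2
    obtain ⟨k, hk⟩ : ∃ k : F, k ^ 2 = ρ := Finite.injective_iff_surjective.1 (frobenius_inj F 2) ρ
    have hkσ : σ k = k := by
      refine frobenius_inj F 2 ?_
      rw [frobenius_def, frobenius_def, ← map_pow, hk, hρ]
    have := hroot μ hμin k hkσ
    rwa [← sq, hk, hρt] at this
  · have hσ2 : σ (2 : F) = 2 := map_ofNat σ 2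
    have h1 := hroot μ hμin ((ρ + 1) / 2) (by rw [map_div₀, map_add, hρ, map_one, hσ2])
    have h1' := hroot μ hμin ((ρ - 1) / 2) (by rw [map_div₀, map_sub, hρ, map_one, hσ2])
    have h3' := hsub _ _ h1 h1'
    refine h3'.congr fun X => ?_
    simp only [el_apply]
    refine congrArg (fun z => S.T z w) ?_
    simp only [LinearMap.sub_apply, LinearMap.smul_apply]
    match_scalars
    rw [← hρt]
    field_simp
    ring

end TU

end Cfsg.Agent.UnitTensor
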