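import Cfsg.Agent.Lib.UnitTensor.Root

/-!
All transvections from those of one pure tensor.
-/

set_option autoImplicit false

namespace Cfsg.Agent.UnitTensor

open scoped Matrix MatrixGroups
open Module Submodule
open Cfsg.Agent Cfsg.Agent.TransvMax Cfsg.Agent.ExtFieldMax

variable {F : Type*} [Field F] [Fintype F] {σ : F ≃+* F} {ι : Type} [Fintype ι] [DecidableEq ι] {a b : ℕ}
  {f : (ι → F) → (ι → F) → F} {H : Subgroup ((ι → F) ≃ₗ[F] (ι → F))}

namespace TU

variable (S : TU σ f a b)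

/-- `Y ↦ e f(Y, X) X` -/
noncomputable def tvop (X : ι → F) (e : F) : Module.End F (ι → F) := (e • hermFun S.uf X).smulRight X

/-- The Siegel map without the identity. -/
noncomputable def SG (X z : ι → F) (c : F) : Module.End F (ι → F) :=
  (hermFun S.uf X).smulRight z + (c • hermFun S.uf X - hermFun S.uf z).smulRight X

/-- All transvections with this centre. -/
def Cen (H : Subgroup ((ι → F) ≃ₗ[F] (ι → F))) (X : ι → F) : Prop :=
  f X X = 0 ∧ ∀ e : F, e + σ e = 0 → InH H (S.tvop X e)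

/-- A Siegel map of this pair is present. -/
def Good (H : Subgroup ((ι → F) ≃ₗ[F] (ι → F))) (X z : ι → F) : Prop :=
  f z X = 0 ∧ ∃ c : F, c + σ c = -f z z ∧ InH H (S.SG X z c)

variable {S}

omit [Fintype F] in
theorem tvop_apply (X : ι → F) (e : F) (Y : ι → F) : S.tvop X e Y = (e * f Y X) • X := rfl

omit [Fintype F] in
theorem SG_apply (X z : ι → F) (c : F) (Y : ι → F) :
    S.SG X z c Y = f Y X • z + (c * f Y X - f Y z) • X := rfl

omit [Fintype F] in
theorem Cen.smul {X : ι → F} (h : S.Cen H X) (r : F) : S.Cen H (r • X) := by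
  refine ⟨by rw [S.uf.smul_left, herm_smul_right S.uf, h.1, mul_zero, mul_zero], fun e he => ?_⟩
  refine (h.2 (e * σ r * r) ?_).congr fun Y => ?_
  · rw [map_mul, map_mul, S.uf.involutive]
    linear_combination (σ r * r) * he
  · rw [tvop_apply, tvop_apply, herm_smul_right S.uf, smul_smul]
    congr 1
    ring

omit [Fintype F] in
theorem Cen.map {X : ι → F} (O : S.Over H) (h : S.Cen H X) {g : (ι → F) ≃ₗ[F] (ι → F)} (hg : g ∈ H) :
    S.Cen H (g X) := by
  refine ⟨by rw [O.iso g hg, h.1], fun e he => ((h.2 e he).conj hg).congr fun Y => ?_⟩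
  simp [tvop_apply, O.symm_eq hg]

omit [Fintype F] in
theorem Cen.line {X Z : ι → F} (O : S.Over H) (hX : S.Cen H X) (hZ : S.Cen H Z) {e : F} (he : e + σ e = 0) :
    S.Cen H (X + (e * f X Z) • Z) := by
  obtain ⟨g, hg, hgx⟩ := hZ.2 e he
  have := hX.map O hg
  rwa [hgx, tvop_apply] at this

omit [Fintype F] in
theorem Good.zero (X : ι → F) : S.Good H X 0 :=
  ⟨herm_zero_left S.uf X, 0, by simp [herm_zero_left S.uf],
    InH.zero.congr fun Y => by simp [SG_apply, herm_zero_right S.uf]⟩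

omit [Fintype F] in
theorem Good.add {X z z' : ι → F} (hX : f X X = 0) (h : S.Good H X z) (h' : S.Good H X z') :
    S.Good H X (z + z') := by
  obtain ⟨hz, c, hc, hin⟩ := h
  obtain ⟨hz', c', hc', hin'⟩ := h'
  have hXz : f X z = 0 := herm_eq_zero_comm S.uf hz
  refine ⟨by rw [S.uf.add_left, hz, hz', add_zero], c + c' - f z' z, ?_, (hin.mul hin').congr fun Y => ?_⟩
  · simp only [S.uf.add_left, herm_add_right S.uf, map_sub, map_add, ← S.uf.herm]
    linear_combination hc + hc'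
  · simp only [LinearMap.add_apply, Module.End.mul_apply, SG_apply, S.uf.add_left, S.uf.smul_left, hz', hX, hXz,
      herm_add_right S.uf]
    module

omit [Fintype F] in
theorem Good.neg {X z : ι → F} (hX : f X X = 0) (h : S.Good H X z) : S.Good H X (-z) := by
  obtain ⟨hz, c, hc, g, hg, hgx⟩ := h
  have hneg : ∀ Y, f Y (-z) = -f Y z := fun Y => by
    rw [show -z = (0 : ι → F) - z by simp, herm_sub_right S.uf, herm_zero_right S.uf, zero_sub]
  refine ⟨by rw [show -z = (-1 : F) • z by simp, S.uf.smul_left, hz, mul_zero], σ c, ?_,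
    g⁻¹, H.inv_mem hg, fun Y => g.injective ?_⟩
  · rw [S.uf.involutive, hneg, show -z = (-1 : F) • z by simp, S.uf.smul_left]
    linear_combination hc
  · show g (g.symm Y) = _
    rw [g.apply_symm_apply, hgx]
    simp only [SG_apply, S.uf.add_left, S.uf.smul_left, hneg, hz, hX, herm_eq_zero_comm S.uf hz,
      show f (-z) X = 0 by rw [show -z = (-1 : F) • z by simp, S.uf.smul_left, hz, mul_zero],
      show f (-z) z = -f z z by rw [show -z = (-1 : F) • z by simp, S.uf.smul_left, neg_one_mul]]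
    match_scalars <;> try ring_nf
    linear_combination -(f Y X) * hc

omit [Fintype F] in
theorem Good.sub {X z z' : ι → F} (hX : f X X = 0) (h : S.Good H X z) (h' : S.Good H X z') :
    S.Good H X (z - z') := by
  rw [sub_eq_add_neg]
  exact h.add hX (h'.neg hX)

omit [Fintype F] in
theorem Good.map {X z : ι → F} (O : S.Over H) (h : S.Good H X z) {g : (ι → F) ≃ₗ[F] (ι → F)} (hg : g ∈ H)
    (hgX : g X = X) : S.Good H X (g z) := by
  obtain ⟨hz, c, hc, hin⟩ := h
  refine ⟨by rw [← hgX, O.iso g hg, hz], c, by rw [O.iso g hg, hc], (hin.conj hg).congr fun Y => ?_⟩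
  have e1 : f (g.symm Y) X = f Y X := by rw [O.symm_eq hg, hgX]
  simp [SG_apply, O.symm_eq hg, e1, hgX]

omit [Fintype F] in
/-- A Siegel map from three centres. -/
theorem good_of_cen {X z : ι → F} (hX : S.Cen H X) (hz : S.Cen H z) (hXz : S.Cen H (X + z)) (hzX : f z X = 0)
    {e : F} (he : e + σ e = 0) : S.Good H X (e • z) := by
  have hXz0 : f X z = 0 := herm_eq_zero_comm S.uf hzX
  refine ⟨by rw [S.uf.smul_left, hzX, mul_zero], 0, by
    rw [S.uf.smul_left, herm_smul_right S.uf, hz.1]; simp, ?_⟩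
  refine (((hXz.2 e he).sub (hX.2 e he) (fun Y => ?_) fun Y => ?_).sub (hz.2 e he) (fun Y => ?_) fun Y => ?_).congr
    fun Y => ?_
  all_goals
    simp [tvop_apply, SG_apply, S.uf.add_left, herm_add_right S.uf, S.uf.smul_left, herm_smul_right S.uf, hX.1,
      hz.1, hzX, hXz0, show σ e = -e by linear_combination he]
  module

/-- All pure tensors of isotropic vectors are centres. -/
theorem cen_pure (O : S.Over H) (hr : S.HasRoot H) {u : Fin a → F} {w : Fin b → F} (hu : S.h₁ u u = 0)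
    (hw : S.h₂ w w = 0) : S.Cen H (S.T u w) := by
  obtain ⟨u₀, w₀, hu₀0, hu₀, hw₀0, hw₀, hroot⟩ := hr
  have h0 : S.Cen H (S.T u₀ w₀) := by
    refine ⟨by rw [S.form, hu₀, zero_mul], fun e he => (hroot e he).congr fun Y => ?_⟩
    simp [el_apply, tvop_apply, r1_apply, S.f_T, smul_smul]
  by_cases hu0 : u = 0
  · rw [hu0, map_zero, LinearMap.zero_apply]
    simpa using h0.smul 0
  by_cases hw0 : w = 0
  · rw [hw0, map_zero]
    simpa using h0.smul 0
  obtain ⟨A, hA, s, hs, hAu⟩ := exists_move S.u₁ hu₀0 hu0 hu₀ hu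
  obtain ⟨B, hB, r, hr, hBw⟩ := exists_move S.u₂ hw₀0 hw0 hw₀ hw
  obtain ⟨g, hg, hgx⟩ := O.left A hA
  obtain ⟨k, hk, hkx⟩ := O.right B hB
  have h1 := ((h0.map O hg).map O hk).smul (s * r)⁻¹
  simp only [hgx, hkx, hAu, hBw, map_smul, LinearMap.smul_apply, smul_smul] at h1
  rwa [inv_mul_cancel₀ (mul_ne_zero hs hr), one_smul] at h1

/-- Centres of two terms. -/
theorem cen_two (O : S.Over H) (hr : S.HasRoot H) {u v : Fin a → F} (hu : S.h₁ u u = 0) (hv : S.h₁ v v = 0)
    (huv : S.h₁ u v = 1) {w y : Fin b → F} (hw0 : w ≠ 0) (hw : S.h₂ w w = 0) (hy : S.h₂ y y = 0)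
    (hyw : S.h₂ y w = 0) (hind : ∀ s : F, y ≠ s • w) : S.Cen H (S.T u w + S.T v y) := by
  obtain ⟨μ, hμ0, hμ⟩ := exists_trace_zero S.uf.ne_refl S.uf.involutive
  have hli : LinearIndependent F ![w, y] := (LinearIndependent.pair_iff' hw0).2 fun s hs => hind s hs.symm
  obtain ⟨x, hx⟩ := exists_herm_values S.u₂ hli ![1, 0]
  have hxw : S.h₂ x w = 1 := by simpa using hx 0
  have hxy : S.h₂ x y = 0 := by simpa using hx 1
  obtain ⟨α, hα⟩ := exists_shift S.u₂ hw (x := x) (by rw [S.u₂.herm, hxw, map_one])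
  obtain ⟨ws, hwsdef⟩ : ∃ ws, ws = x + α • w := ⟨_, rfl⟩
  rw [← hwsdef] at hα
  have hwy : S.h₂ w y = 0 := herm_eq_zero_comm S.u₂ hyw
  have hwsy : S.h₂ ws y = 0 := by rw [hwsdef, S.u₂.add_left, S.u₂.smul_left, hxy, hwy, mul_zero, add_zero]
  have hwws : S.h₂ w ws = 1 := by
    rw [hwsdef, herm_add_right S.u₂, herm_smul_right S.u₂, hw, mul_zero, add_zero, S.u₂.herm, hxw, map_one]
  obtain ⟨z, hzdef⟩ : ∃ z, z = ws - μ⁻¹ • y := ⟨_, rfl⟩
  have hz : S.h₂ z z = 0 := by
    simp [hzdef, herm_sub_left S.u₂, herm_sub_right S.u₂, S.u₂.smul_left, herm_smul_right S.u₂, hα, hy, hwsy,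
      herm_eq_zero_comm S.u₂ hwsy]
  have hwz : S.h₂ w z = 1 := by
    simp [hzdef, herm_sub_right S.u₂, herm_smul_right S.u₂, hwws, hwy]
  have h1 := (cen_pure O hr hu hw).line O (cen_pure O hr hv hα) hμ
  rw [S.form, huv, hwws, mul_one, mul_one] at h1
  have h2 := h1.line O (cen_pure O hr hv hz) (e := -μ) (by rw [map_neg]; linear_combination -hμ)
  rw [S.uf.add_left, S.uf.smul_left, S.form, S.form, huv, hv, hwz, zero_mul, mul_zero, add_zero, mul_one,
    mul_one] at h2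
  convert h2 using 1
  rw [hzdef, map_sub, map_smul, smul_sub, smul_smul, neg_mul, mul_inv_cancel₀ hμ0]
  module

/-- Siegel maps along a pure tensor, for the first part of the orthogonal. -/
theorem good_left (hb : 5 ≤ b) (O : S.Over H) (hr : S.HasRoot H) {u v : Fin a → F} (hu : S.h₁ u u = 0)
    (hv : S.h₁ v v = 0) (huv : S.h₁ u v = 1) {w : Fin b → F} (hw0 : w ≠ 0) (hw : S.h₂ w w = 0)
    {x : Fin a → F} (hx : S.h₁ x u = 0) {y : Fin b → F} (hy : S.h₂ y w = 0) :
    S.Good H (S.T u w) (S.T x y) ∧ S.Good H (S.T u w) (S.T v y) := by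
  classical
  obtain ⟨ε, hε0, hε⟩ := exists_trace_zero S.uf.ne_refl S.uf.involutive
  have hX := cen_pure O hr hu hw
  have hvu : S.h₁ v u = 1 := by rw [S.u₁.herm, huv, map_one]
  have gen : ∀ c : Fin a → F, S.h₁ c c = 0 →
      (∀ y, S.h₂ y y = 0 → S.h₂ y w = 0 → (∀ s : F, y ≠ s • w) → S.Cen H (S.T u w + S.T c y)) →
      ∀ y, S.h₂ y w = 0 → S.Good H (S.T u w) (S.T c y) := by
    intro c hc hcen
    have hiso : ∀ y, S.h₂ y y = 0 → S.h₂ y w = 0 → (∀ s : F, y ≠ s • w) → S.Good H (S.T u w) (S.T c y) := by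
      intro y hy hyw hind
      have h1 : S.h₂ (ε⁻¹ • y) (ε⁻¹ • y) = 0 := by
        rw [S.u₂.smul_left, herm_smul_right S.u₂, hy, mul_zero, mul_zero]
      have h2 : S.h₂ (ε⁻¹ • y) w = 0 := by rw [S.u₂.smul_left, hyw, mul_zero]
      have := good_of_cen hX (cen_pure O hr hc h1)
        (hcen _ h1 h2 fun s hs => hind (ε * s) (by rw [mul_smul, ← hs, smul_smul, mul_inv_cancel₀ hε0, one_smul]))
        (by rw [S.form, h2, mul_zero]) hε
      rwa [← map_smul, smul_smul, mul_inv_cancel₀ hε0, one_smul] at this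
    obtain ⟨ws, hwws, hws⟩ := exists_partner S.u₂ hw0 hw
    obtain ⟨p, hp0, hp, hpv⟩ := exists_iso_perp S.u₂ ![w, ws] (by omega) (by omega)
    have hpw : S.h₂ p w = 0 := hpv 0
    have hpws : S.h₂ p ws = 0 := hpv 1
    have hpi : ∀ s : F, p ≠ s • w := fun s hs => by
      rw [hs, S.u₂.smul_left, hwws, mul_one] at hpws
      exact hp0 (by rw [hs, hpws, zero_smul])
    have hwline : ∀ β : F, S.Good H (S.T u w) (S.T c (β • w)) := by
      intro β
      obtain ⟨x, hx⟩ := exists_herm_values S.u₂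
        ((LinearIndependent.pair_iff' hw0).2 fun s hs => hpi s hs.symm : LinearIndependent F ![w, p]) ![0, σ β]
      have hxw : S.h₂ x w = 0 := by simpa using hx 0
      have hpx : S.h₂ p x = β := by
        rw [S.u₂.herm, show S.h₂ x p = σ β by simpa using hx 1, S.uf.involutive]
      obtain ⟨t, ht⟩ := exists_trace_eq S.uf.ne_refl S.uf.involutive (a := -S.h₂ x x)
        (by rw [map_neg, self_fixed S.u₂])
      obtain ⟨g, hg, hgx⟩ := O.right _ (isSU_hSiegel S.u₂ hw hxw ht)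
      have h0 := hiso p hp hpw hpi
      have h1 := h0.map O hg (by rw [hgx, hSiegel_mulVec, hw, herm_eq_zero_comm S.u₂ hxw]; simp)
      rw [hgx, hSiegel_mulVec, hpw, hpx] at h1
      have h2 := h0.sub hX.1 h1
      convert h2 using 1
      simp
    let P : Submodule F (Fin b → F) :=
      { carrier := {y | ∀ β : F, S.Good H (S.T u w) (S.T c (β • y))}
        add_mem' := fun {y y'} h h' β => by rw [smul_add, map_add]; exact (h β).add hX.1 (h' β)
        zero_mem' := fun β => by rw [smul_zero, map_zero]; exact Good.zero _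
        smul_mem' := fun t y h β => by rw [smul_smul]; exact h _ }
    obtain ⟨q₀, hq₀⟩ := exists_herm_values S.u₂
      ((LinearIndependent.pair_iff' hw0).2 fun s hs => hpi s hs.symm : LinearIndependent F ![w, p]) ![0, 1]
    have hq₀w : S.h₂ q₀ w = 0 := by simpa using hq₀ 0
    have hq₀p : S.h₂ p q₀ = 1 := by
      rw [S.u₂.herm, show S.h₂ q₀ p = 1 by simpa using hq₀ 1, map_one]
    obtain ⟨α, hα⟩ := exists_shift S.u₂ hp hq₀p
    intro y hy
    have := mem_of_iso S.u₂ (LinearMap.ker (hermFun S.u₂ w)) P (q := q₀ + α • p) hpw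
      (by show S.h₂ _ w = 0; rw [S.u₂.add_left, S.u₂.smul_left, hq₀w, hpw, mul_zero, add_zero]) hp hα
      (by rw [herm_add_right S.u₂, herm_smul_right S.u₂, hp, mul_zero, add_zero, hq₀p])
      (fun z hz hzz β => by
        have hz' : S.h₂ z w = 0 := hz
        by_cases hzi : ∃ s : F, β • z = s • w
        · obtain ⟨s, hs⟩ := hzi
          rw [hs]; exact hwline s
        push Not at hzi
        exact hiso _ (by rw [S.u₂.smul_left, herm_smul_right S.u₂, hzz, mul_zero, mul_zero])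
          (by rw [S.u₂.smul_left, hz', mul_zero]) hzi) (show y ∈ LinearMap.ker (hermFun S.u₂ w) from hy) 1
    rwa [one_smul] at this
  have hgu := gen u hu fun z hz hzw hzi => by
    rw [← map_add]
    exact cen_pure O hr hu (by
      rw [S.u₂.add_left, herm_add_right S.u₂, herm_add_right S.u₂, hw, hz, hzw, herm_eq_zero_comm S.u₂ hzw]
      simp)
  have hgv := gen v hv fun z hz hzw hzi => cen_two O hr hu hv huv hw0 hw hz hzw hzi
  obtain ⟨t, ht⟩ := exists_trace_eq S.uf.ne_refl S.uf.involutive (a := -S.h₁ x x)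
    (by rw [map_neg, self_fixed S.u₁])
  obtain ⟨g, hg, hgx⟩ := O.left _ (isSU_hSiegel S.u₁ hu hx ht)
  have h1 := (hgv y hy).map O hg (by rw [hgx, hSiegel_mulVec, hu, herm_eq_zero_comm S.u₁ hx]; simp)
  rw [hgx, hSiegel_mulVec, hvu, one_smul, mul_one] at h1
  have h2 := (h1.sub hX.1 (hgv y hy)).sub hX.1
    (hgu ((t - S.h₁ v x) • y) (by rw [S.u₂.smul_left, hy, mul_zero]))
  refine ⟨?_, hgv y hy⟩
  convert h2 using 1
  simp
  try abel

/-- Siegel maps along a pure tensor. -/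
theorem good_all (hb : 5 ≤ b) (O : S.Over H) (hr : S.HasRoot H) {u v : Fin a → F} (hu : S.h₁ u u = 0)
    (hv : S.h₁ v v = 0) (huv : S.h₁ u v = 1) {w ws : Fin b → F} (hw0 : w ≠ 0) (hw : S.h₂ w w = 0)
    (hws : S.h₂ ws ws = 0) (hwws : S.h₂ w ws = 1) :
    ∀ z, f z (S.T u w) = 0 → S.Good H (S.T u w) z := by
  classical
  have hX := cen_pure O hr hu hw
  have hvu : S.h₁ v u = 1 := by rw [S.u₁.herm, huv, map_one]
  have hwsw : S.h₂ ws w = 1 := by rw [S.u₂.herm, hwws, map_one]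
  have left := fun (x : Fin a → F) (hx : S.h₁ x u = 0) (y : Fin b → F) (hy : S.h₂ y w = 0) =>
    (good_left hb O hr hu hv huv hw0 hw hx hy).1
  obtain ⟨y₁, hy₁0, hy₁, hy₁v⟩ := exists_iso_perp S.u₂ ![w, ws] (by omega) (by omega)
  have hy₁w : S.h₂ y₁ w = 0 := hy₁v 0
  have hy₁ws : S.h₂ y₁ ws = 0 := hy₁v 1
  have hy₁i : ∀ s : F, y₁ ≠ s • w := fun s hs => by
    rw [hs, S.u₂.smul_left, hwws, mul_one] at hy₁ws
    exact hy₁0 (by rw [hs, hy₁ws, zero_smul])
  obtain ⟨y₂, hy₂⟩ := exists_herm_values S.u₂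
    ((LinearIndependent.pair_iff' hw0).2 fun s hs => hy₁i s hs.symm : LinearIndependent F ![w, y₁]) ![0, 1]
  have hy₂w : S.h₂ y₂ w = 0 := by simpa using hy₂ 0
  have hy₂y₁ : S.h₂ y₂ y₁ = 1 := by simpa using hy₂ 1
  have hgv : ∀ y, S.h₂ y w = 0 → S.Good H (S.T u w) (S.T v y) := fun y hy =>
    (good_left hb O hr hu hv huv hw0 hw hu hy).2
  have cross : ∀ x, S.h₁ x u = 0 → ∀ δ : F, S.Good H (S.T u w) (S.T x (δ • ws)) := by
    intro x hx δ
    obtain ⟨-, c, -, g, hg, hgx⟩ := (good_left hb O hr hu hv huv hy₁0 hy₁ hx (y := δ • ws)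
      (by rw [S.u₂.smul_left, herm_eq_zero_comm S.u₂ hy₁ws, mul_zero])).1
    have hwy₁ : S.h₂ w y₁ = 0 := herm_eq_zero_comm S.u₂ hy₁w
    have hgX : g (S.T u w) = S.T u w := by
      rw [hgx, SG_apply, S.form, S.form, hwy₁, herm_eq_zero_comm S.u₁ hx]
      simp
    have h0 := hgv y₂ hy₂w
    have h1 := h0.map O hg hgX
    rw [hgx, SG_apply, S.form, hvu, hy₂y₁, one_mul, one_smul] at h1
    have h2 := (h1.sub hX.1 h0).sub hX.1
      (left u hu ((c * 1 - f (S.T v y₂) (S.T x (δ • ws))) • y₁) (by rw [S.u₂.smul_left, hy₁w, mul_zero]))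
    convert h2 using 1
    simp only [map_smul]
    abel
  have hπT : ∀ c y, S.Good H (S.T u w) (S.T c y - f (S.T c y) (S.T u w) • S.T v ws) := by
    intro c y
    rw [S.form]
    have hx : S.h₁ (c - S.h₁ c u • v) u = 0 := by
      rw [herm_sub_left S.u₁, S.u₁.smul_left, hvu, mul_one, sub_self]
    have hy : S.h₂ (y - S.h₂ y w • ws) w = 0 := by
      rw [herm_sub_left S.u₂, S.u₂.smul_left, hwsw, mul_one, sub_self]
    have := ((hgv (S.h₁ c u • (y - S.h₂ y w • ws)) (by rw [S.u₂.smul_left, hy, mul_zero])).add hX.1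
      (left _ hx _ hy)).add hX.1 (cross _ hx (S.h₂ y w))
    convert this using 1
    simp only [map_sub, map_smul, LinearMap.sub_apply, LinearMap.smul_apply]
    module
  intro z hz
  have hπ : ∀ z, S.Good H (S.T u w) (z - f z (S.T u w) • S.T v ws) := by
    intro z
    obtain ⟨M, rfl⟩ := S.L.surjective z
    rw [TensorMax.rows_sum M, map_sum]
    refine Finset.sum_induction _ (fun z => S.Good H (S.T u w) (z - f z (S.T u w) • S.T v ws))
      (fun z z' h1 h2 => ?_) ?_ (fun i _ => by rw [S.hL]; exact hπT _ _)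
    · have := h1.add hX.1 h2
      convert this using 1
      rw [S.uf.add_left]
      module
    · simpa [herm_zero_left S.uf] using Good.zero (S := S) (H := H) (S.T u w)
  have := hπ z
  rwa [hz, zero_smul, sub_zero] at this

/-- Every isotropic vector is a centre. -/
theorem cen_all (ha : 2 ≤ a) (hb : 5 ≤ b) (O : S.Over H) (hr : S.HasRoot H) {Y : ι → F} (hY : f Y Y = 0) :
    S.Cen H Y := by
  classical
  obtain ⟨u, hu0, hu⟩ := exists_iso S.u₁ ha
  obtain ⟨v, huv, hv⟩ := exists_partner S.u₁ hu0 hu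
  obtain ⟨w, hw0, hw⟩ := exists_iso S.u₂ (show 2 ≤ b by omega)
  obtain ⟨ws, hwws, hws⟩ := exists_partner S.u₂ hw0 hw
  obtain ⟨X, hXdef⟩ : ∃ X, X = S.T u w := ⟨_, rfl⟩
  obtain ⟨X', hX'def⟩ : ∃ X', X' = S.T v ws := ⟨_, rfl⟩
  have hX : S.Cen H X := hXdef ▸ cen_pure O hr hu hw
  have hX' : S.Cen H X' := hX'def ▸ cen_pure O hr hv hws
  have hX'X : f X' X = 1 := by
    rw [hXdef, hX'def, S.form, S.u₁.herm, S.u₂.herm ws, huv, hwws, map_one, mul_one]
  have hgood := good_all hb O hr hu hv huv hw0 hw hws hwws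
  rw [← hXdef] at hgood
  have main : ∀ Y, f Y Y = 0 → f Y X ≠ 0 → S.Cen H Y := by
    intro Y hY hne
    obtain ⟨Z, hZdef⟩ : ∃ Z, Z = (f Y X)⁻¹ • Y := ⟨_, rfl⟩
    have hZ : f Z Z = 0 := by rw [hZdef, S.uf.smul_left, herm_smul_right S.uf, hY, mul_zero, mul_zero]
    have hZX : f Z X = 1 := by rw [hZdef, S.uf.smul_left, inv_mul_cancel₀ hne]
    obtain ⟨z, hzdef⟩ : ∃ z, z = Z - X' := ⟨_, rfl⟩
    have hzX : f z X = 0 := by rw [hzdef, herm_sub_left S.uf, hZX, hX'X, sub_self]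
    obtain ⟨-, c, hc, g, hg, hgx⟩ := hgood z hzX
    have hd : f X' z - c + σ (f X' z - c) = 0 := by
      rw [hzdef] at hc ⊢
      simp only [herm_sub_left S.uf, herm_sub_right S.uf, map_sub, hZ, hX'.1, ← S.uf.herm, map_zero, map_one]
        at hc ⊢
      linear_combination -hc
    obtain ⟨k, hk, hkx⟩ := hX.2 _ hd
    have h1 := ((hX'.map O hg).map O hk).smul (f Y X)
    rw [hgx, hkx, SG_apply, tvop_apply, hX'X, one_smul, mul_one, S.uf.add_left, S.uf.add_left, S.uf.smul_left,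
      hX'X, hzX, hX.1, mul_zero, add_zero, add_zero, mul_one] at h1
    convert h1 using 1
    rw [show X' + (z + (c - f X' z) • X) + (f X' z - c) • X = Z by rw [hzdef]; module, hZdef, smul_smul,
      mul_inv_cancel₀ hne, one_smul]
  by_cases hne : f Y X = 0
  swap
  · exact main Y hY hne
  by_cases hdep : ∃ s : F, Y = s • X
  · obtain ⟨s, rfl⟩ := hdep
    exact hX.smul s
  push Not at hdep
  have hX0 : X ≠ 0 := fun e => by rw [e, herm_zero_right S.uf] at hX'X; exact zero_ne_one hX'X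
  obtain ⟨x, hx⟩ := exists_herm_values S.uf
    ((LinearIndependent.pair_iff' hX0).2 fun s hs => hdep s hs.symm : LinearIndependent F ![X, Y]) ![1, 1]
  have hxX : f x X = 1 := by simpa using hx 0
  have hxY : f x Y = 1 := by simpa using hx 1
  obtain ⟨τ, hτ⟩ := exists_trace_eq S.uf.ne_refl S.uf.involutive (a := -f x x)
    (by rw [map_neg, ← S.uf.herm])
  obtain ⟨Y₁, hY₁def⟩ : ∃ Y₁, Y₁ = x + τ • X := ⟨_, rfl⟩
  have hXx : f X x = 1 := by rw [S.uf.herm, hxX, map_one]
  have hY₁ : f Y₁ Y₁ = 0 := by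
    simp only [hY₁def, S.uf.add_left, herm_add_right S.uf, S.uf.smul_left, herm_smul_right S.uf, hX.1, hxX, hXx]
    linear_combination hτ
  have hY₁X : f Y₁ X = 1 := by rw [hY₁def, S.uf.add_left, S.uf.smul_left, hxX, hX.1, mul_zero, add_zero]
  have hYY₁ : f Y Y₁ = 1 := by
    rw [hY₁def, herm_add_right S.uf, herm_smul_right S.uf, hne, mul_zero, add_zero, S.uf.herm, hxY, map_one]
  obtain ⟨ε, hε0, hε⟩ := exists_trace_zero S.uf.ne_refl S.uf.involutive
  obtain ⟨g, hg, hgx⟩ := (main Y₁ hY₁ (by rw [hY₁X]; exact one_ne_zero)).2 ε hε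
  have h1 := main (g Y) (by rw [O.iso g hg, hY]) (by
    rw [hgx, tvop_apply, S.uf.add_left, S.uf.smul_left, hne, hYY₁, hY₁X, zero_add, mul_one, mul_one]
    exact hε0)
  have h2 := h1.map O (H.inv_mem hg)
  rwa [show g⁻¹ (g Y) = Y from g.symm_apply_apply Y] at h2

end TU

end Cfsg.Agent.UnitTensor
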